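import Cfsg.Agent.Lib.TwoClassSizes.Normal

/-!
Conjugacy classes of coprime sizes: the product is a class, and the consequences for the
centralizer of the element with the smaller class.
-/

set_option autoImplicit false
set_option linter.style.haveILetI false

open scoped Pointwise

namespace CfsgLib.ClassGraph

open CfsgLib.CentMaxNormal CfsgLib.TwoClassSizes

variable {G : Type*} [Group G]

/-- The conjugacy class of an element, as a set. -/
def cls (y : G) : Set G := Set.range fun g : G => g * y * g⁻¹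

/-- The subgroup generated by the quotients of conjugates of `x`. -/
def diff (x : G) : Subgroup G := Subgroup.closure (Set.range fun g : G => x⁻¹ * (g * x * g⁻¹))

theorem mem_diff (x g : G) : x⁻¹ * (g * x * g⁻¹) ∈ diff x := Subgroup.subset_closure ⟨g, rfl⟩

instance diff_normal (x : G) : (diff x).Normal := by
  refine ⟨fun n hn k => ?_⟩
  unfold diff at hn
  induction hn using Subgroup.closure_induction with
  | mem a ha =>
    obtain ⟨g, rfl⟩ := ha
    have h := (diff x).mul_mem ((diff x).inv_mem (mem_diff x k)) (mem_diff x (k * g))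
    convert h using 1
    group
  | one => simp
  | mul a b _ _ iha ihb =>
    have := (diff x).mul_mem iha ihb
    simpa [mul_assoc] using this
  | inv a _ iha =>
    have := (diff x).inv_mem iha
    simpa [mul_assoc] using this

theorem index_cen_conj (g x : G) : (cen (g * x * g⁻¹)).index = (cen x).index := by
  rw [← map_cen]
  exact Subgroup.index_map_equiv (H := cen x) (MulAut.conj g)

theorem one_lt_index [Finite G] {x : G} (hx : x ∉ Subgroup.center G) : 1 < (cen x).index :=
  Subgroup.one_lt_index_of_ne_top fun h => hx (cen_eq_top_iff.mp h)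

theorem not_mem_center {x : G} (hx : 1 < (cen x).index) : x ∉ Subgroup.center G := fun h => by
  rw [cen_eq_top_iff.mpr h, Subgroup.index_top] at hx
  exact lt_irrefl 1 hx

theorem cen_mul_le {a b : G} (hc : Commute a b) (hcop : (orderOf a).Coprime (orderOf b)) :
    cen (a * b) ≤ cen a ⊓ cen b :=
  le_inf (cen_le_cen_of_mem (mem_zpowers_mul hc hcop))
    (cen_le_cen_of_mem (hc.eq ▸ mem_zpowers_mul hc.symm hcop.symm))

section Finite

variable [Finite G]

theorem card_cls (y : G) : Nat.card (cls y) = (cen y).index := by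
  rw [Subgroup.index_eq_card]
  refine (Nat.card_congr (Equiv.ofBijective
    (fun q : G ⧸ cen y => (⟨Quotient.liftOn' q (fun g => g * y * g⁻¹) ?_, ?_⟩ : cls y))
    ⟨?_, ?_⟩)).symm
  · intro a b hab
    rw [QuotientGroup.leftRel_apply, mem_cen] at hab
    calc a * y * a⁻¹ = a * (y * (a⁻¹ * b)) * b⁻¹ := by group
      _ = b * y * b⁻¹ := by rw [← hab]; group
  · induction q using Quotient.inductionOn'
    rename_i a
    exact ⟨a, rfl⟩
  · intro p q
    induction p using Quotient.inductionOn'
    induction q using Quotient.inductionOn'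
    rename_i a b
    intro h
    have h' : a * y * a⁻¹ = b * y * b⁻¹ := congrArg Subtype.val h
    refine QuotientGroup.eq.mpr (mem_cen.mpr ?_)
    calc a⁻¹ * b * y = a⁻¹ * (b * y * b⁻¹) * b := by group
      _ = y * (a⁻¹ * b) := by rw [← h']; group
  · rintro ⟨_, g, rfl⟩
    exact ⟨(g : G ⧸ cen y), rfl⟩

theorem index_inf_of_coprime {H K : Subgroup G} (hcop : H.index.Coprime K.index) :
    (H ⊓ K).index = H.index * K.index :=
  le_antisymm Subgroup.index_inf_le (Nat.le_of_dvd
    (Nat.pos_of_ne_zero Subgroup.index_ne_zero_of_finite)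
    (hcop.mul_dvd_of_dvd_of_dvd (Subgroup.index_dvd_of_le inf_le_left)
      (Subgroup.index_dvd_of_le inf_le_right)))

/-- Two subgroups of coprime indices have product the whole group. -/
theorem exists_mul_of_coprime {H K : Subgroup G} (hcop : H.index.Coprime K.index) (g : G) :
    ∃ h ∈ H, ∃ k ∈ K, g = h * k := by
  have h1 : K.relIndex H = K.index := by
    have h2 := Subgroup.relIndex_mul_index (inf_le_left : H ⊓ K ≤ H)
    rw [Subgroup.inf_relIndex_left, index_inf_of_coprime hcop, mul_comm H.index] at h2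
    exact mul_right_cancel₀ Subgroup.index_ne_zero_of_finite h2
  have hu : MulAction.orbit H ((1 : G) : G ⧸ K) = Set.univ := by
    refine Set.eq_of_subset_of_ncard_le (Set.subset_univ _) ?_
    rw [Set.ncard_univ, ← Subgroup.index_eq_card, ← MulAction.index_stabilizer, ← h1]
    have hs : MulAction.stabilizer H ((1 : G) : G ⧸ K) = K.subgroupOf H := by
      ext h
      rw [MulAction.mem_stabilizer_iff, Subgroup.mem_subgroupOf]
      show ((((h : G) * 1 : G) : G ⧸ K)) = ((1 : G) : G ⧸ K) ↔ _
      rw [mul_one, QuotientGroup.eq, mul_one, inv_mem_iff]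
    rw [hs]
    rfl
  obtain ⟨h, hh⟩ := (hu ▸ Set.mem_univ (g : G ⧸ K) : (g : G ⧸ K) ∈ MulAction.orbit H _)
  have hh' : (((h : G) * 1 : G) : G ⧸ K) = (g : G ⧸ K) := hh
  rw [mul_one, QuotientGroup.eq] at hh'
  exact ⟨h, h.2, _, hh', by group⟩

/-- A normal subgroup contributes a divisor of each index. -/
theorem relIndex_dvd_of_normal (C N : Subgroup G) [N.Normal] : C.relIndex N ∣ C.index := by
  refine ⟨(C ⊔ N).index, ?_⟩
  have hn : N.relIndex C ≠ 0 := Subgroup.index_ne_zero_of_finite
  refine mul_left_cancel₀ hn ?_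
  have h1 := Subgroup.relIndex_mul_index (inf_le_left : C ⊓ N ≤ C)
  have h2 := Subgroup.relIndex_mul_index (inf_le_right : C ⊓ N ≤ N)
  have h3 := Subgroup.relIndex_mul_index (le_sup_right : N ≤ C ⊔ N)
  rw [Subgroup.inf_relIndex_left] at h1
  rw [Subgroup.inf_relIndex_right] at h2
  rw [Subgroup.relIndex_sup_right] at h3
  rw [h1, ← h2, ← h3]
  ring

/-- The basic lemma: for classes of coprime sizes, if the class of the product has size prime to
the first one then translation by `diff x` fixes the second class. -/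
theorem translate {x y : G} (hcop : (cen x).index.Coprime (cen y).index)
    (he : (cen (x * y)).index.Coprime (cen x).index) :
    Nat.card (diff x) ∣ (cen y).index ∧ (∀ n ∈ diff x, Commute n x) ∧
      ∀ n ∈ diff x, ∀ w ∈ cls y, n * w ∈ cls y := by
  set c := (cen x).index
  set d := (cen y).index
  set e := (cen (x * y)).index
  have hdvd : e ∣ d := by
    refine he.dvd_of_dvd_mul_left (?_ : e ∣ c * d)
    rw [← index_inf_of_coprime hcop]
    refine Subgroup.index_dvd_of_le fun g hg => mem_cen.mpr ?_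
    exact Commute.mul_right (mem_cen.mp hg.1) (mem_cen.mp hg.2)
  have hled : e ≤ d := Nat.le_of_dvd (Nat.pos_of_ne_zero Subgroup.index_ne_zero_of_finite) hdvd
  have hsub : ∀ g : G, (fun w => g * x * g⁻¹ * w) '' cls y ⊆ cls (x * y) := by
    rintro g _ ⟨_, ⟨h, rfl⟩, rfl⟩
    obtain ⟨u, hu, v, hv, huv⟩ := exists_mul_of_coprime hcop (g⁻¹ * h)
    refine ⟨g * u, ?_⟩
    have h1 : h = g * u * v := by
      calc h = g * (g⁻¹ * h) := by group
        _ = g * u * v := by rw [huv]; group
    show g * u * (x * y) * (g * u)⁻¹ = g * x * g⁻¹ * (h * y * h⁻¹)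
    calc g * u * (x * y) * (g * u)⁻¹ = g * (u * x) * y * u⁻¹ * g⁻¹ := by group
      _ = g * x * u * y * (v * v⁻¹) * u⁻¹ * g⁻¹ := by rw [mem_cen.mp hu]; group
      _ = g * x * u * (y * v) * v⁻¹ * u⁻¹ * g⁻¹ := by group
      _ = g * x * g⁻¹ * (h * y * h⁻¹) := by rw [← mem_cen.mp hv, h1]; group
  have himg : ∀ g : G, (fun w => g * x * g⁻¹ * w) '' cls y = cls (x * y) := fun g =>
    Set.eq_of_subset_of_ncard_le (hsub g) (by
      rw [Set.ncard_image_of_injective _ (mul_right_injective _), ← Nat.card_coe_set_eq,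
        ← Nat.card_coe_set_eq, card_cls, card_cls]
      exact hled)
  have hgen : ∀ n ∈ diff x, ∀ w : G, n * w ∈ cls y ↔ w ∈ cls y := by
    intro n hn
    unfold diff at hn
    induction hn using Subgroup.closure_induction with
    | mem a ha =>
      obtain ⟨g, rfl⟩ := ha
      intro w
      constructor
      · intro h
        have h1 : (1 : G) * x * 1⁻¹ * (x⁻¹ * (g * x * g⁻¹) * w) ∈ cls (x * y) :=
          himg 1 ▸ Set.mem_image_of_mem _ h
        rw [← himg g] at h1
        obtain ⟨w', hw', he'⟩ := h1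
        have : w' = w := by
          apply mul_left_cancel (a := g * x * g⁻¹)
          refine he'.trans ?_
          group
        exact this ▸ hw'
      · intro h
        have h1 : g * x * g⁻¹ * w ∈ cls (x * y) := himg g ▸ Set.mem_image_of_mem _ h
        rw [← himg 1] at h1
        obtain ⟨w', hw', he'⟩ := h1
        have : w' = x⁻¹ * (g * x * g⁻¹) * w := by
          apply mul_left_cancel (a := (1 : G) * x * 1⁻¹)
          refine he'.trans ?_
          group
        exact this ▸ hw'
    | one => simp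
    | mul a b _ _ iha ihb => intro w; rw [mul_assoc, iha, ihb]
    | inv a _ iha => intro w; rw [← iha, mul_inv_cancel_left]
  have hd : Nat.card (diff x) ∣ d := by
    let π : G → G ⧸ diff x := QuotientGroup.mk
    have hpre : cls y = π ⁻¹' (π '' cls y) := by
      refine Set.Subset.antisymm (Set.subset_preimage_image _ _) ?_
      rintro w ⟨w', hw', heq⟩
      have hn : w * w'⁻¹ ∈ diff x := by
        have h1 : w'⁻¹ * w ∈ diff x := QuotientGroup.eq.mp heq
        have h2 := (diff_normal x).conj_mem _ h1 w'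
        simpa [mul_assoc] using h2
      have := (hgen _ hn w').mpr hw'
      rwa [inv_mul_cancel_right] at this
    refine ⟨Nat.card (π '' cls y), ?_⟩
    rw [← Nat.card_prod, show d = Nat.card (cls y) from (card_cls y).symm]
    conv_lhs => rw [hpre]
    exact Nat.card_congr (QuotientGroup.preimageMkEquivSubgroupProdSet _ _)
  refine ⟨hd, fun n hn => ?_, fun n hn w hw => (hgen n hn w).mpr hw⟩
  have h1 : (cen x).relIndex (diff x) = 1 :=
    Nat.eq_one_of_dvd_coprimes hcop (relIndex_dvd_of_normal _ _)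
      ((Subgroup.relIndex_dvd_card _ _).trans hd)
  exact mem_cen.mp (Subgroup.relIndex_eq_one.mp h1 hn)

theorem diff_ne_bot {x : G} (hx : x ∉ Subgroup.center G) : diff x ≠ ⊥ := by
  intro h
  refine hx (Subgroup.mem_center_iff.mpr fun g => ?_)
  have h1 := mem_diff x g
  rw [h, Subgroup.mem_bot, inv_mul_eq_one] at h1
  exact (mul_inv_eq_iff_eq_mul.mp h1.symm)

end Finite

section Good

variable {x : G} (hgood : ∀ n ∈ diff x, Commute n x)

include hgood

theorem commute_conj {n : G} (hn : n ∈ diff x) (g : G) : Commute n (g * x * g⁻¹) := by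
  have h := hgood _ ((diff_normal x).conj_mem n hn g⁻¹)
  have h2 := h.map (MulAut.conj g).toMonoidHom
  simpa [mul_assoc] using h2

theorem conj_commute (g k : G) : Commute (g * x * g⁻¹) (k * x * k⁻¹) := by
  have h1 := commute_conj hgood (mem_diff x g) k
  have h2 : Commute x (k * x * k⁻¹) := by
    have h3 : Commute (x⁻¹ * (k * x * k⁻¹)) x := hgood _ (mem_diff x k)
    have h4 := (Commute.refl x).mul_left h3
    rw [mul_inv_cancel_left] at h4
    exact h4.symm
  have := h2.mul_left h1
  rwa [mul_inv_cancel_left] at this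

theorem diff_comm {a b : G} (ha : a ∈ diff x) (hb : b ∈ diff x) : Commute a b := by
  unfold diff at hb
  induction hb using Subgroup.closure_induction with
  | mem c hc =>
    obtain ⟨g, rfl⟩ := hc
    exact ((hgood a ha).inv_right).mul_right (commute_conj hgood ha g)
  | one => exact Commute.one_right a
  | mul c d _ _ hc hd => exact hc.mul_right hd
  | inv c _ hc => exact hc.inv_right

variable [Finite G]

/-- An element moving some conjugate of `x` has class size divisible by a prime of `diff x`. -/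
theorem exists_prime_dvd {e : G} (g : G) (he : g * x * g⁻¹ ∉ cen e) :
    ∃ r : ℕ, r.Prime ∧ r ∣ Nat.card (diff x) ∧ r ∣ (cen e).index := by
  set L := Subgroup.normalClosure ({x} : Set G) with hLdef
  have hLab : ∀ a ∈ L, ∀ b ∈ L, Commute a b := by
    have h1 : L = Subgroup.closure (cls x) := by
      rw [hLdef, Subgroup.normalClosure]
      congr 1
      ext w
      simp [Group.mem_conjugatesOfSet_iff, isConj_iff, cls]
    intro a ha b hb
    rw [h1] at ha hb
    induction ha using Subgroup.closure_induction with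
    | mem c hc =>
      obtain ⟨k, rfl⟩ := hc
      induction hb using Subgroup.closure_induction with
      | mem d hd => obtain ⟨l, rfl⟩ := hd; exact conj_commute hgood k l
      | one => exact Commute.one_right _
      | mul c d _ _ hc hd => exact hc.mul_right hd
      | inv c _ hc => exact hc.inv_right
    | one => exact Commute.one_left _
    | mul c d _ _ hc hd => exact hc.mul_left hd
    | inv c _ hc => exact hc.inv_left
  have hNL : ∀ a ∈ L, a * e * a⁻¹ * e⁻¹ ∈ diff x := by
    have h1 : L ≤ (Subgroup.center (G ⧸ diff x)).comap (QuotientGroup.mk' (diff x)) := by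
      refine Subgroup.normalClosure_le_normal (Set.singleton_subset_iff.mpr ?_)
      show QuotientGroup.mk' (diff x) x ∈ Subgroup.center _
      refine Subgroup.mem_center_iff.mpr fun q => ?_
      obtain ⟨k, rfl⟩ := QuotientGroup.mk'_surjective (diff x) q
      rw [← map_mul, ← map_mul, QuotientGroup.mk'_eq_mk']
      refine ⟨(k * x)⁻¹ * (x * k), ?_, by group⟩
      have h2 := (diff_normal x).conj_mem _ ((diff x).inv_mem (mem_diff x k)) k⁻¹
      simpa [mul_assoc] using h2
    intro a ha
    have h2 := Subgroup.mem_center_iff.mp (h1 ha) (QuotientGroup.mk' (diff x) e)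
    rw [← QuotientGroup.eq_one_iff (N := diff x)]
    show QuotientGroup.mk' (diff x) (a * e * a⁻¹ * e⁻¹) = 1
    rw [map_mul, map_mul, map_mul, map_inv, map_inv, ← h2]
    group
  have hdL : diff x ≤ L := by
    refine (Subgroup.closure_le _).mpr ?_
    rintro _ ⟨k, rfl⟩
    have hx : x ∈ L := Subgroup.subset_normalClosure rfl
    exact L.mul_mem (L.inv_mem hx) (Subgroup.Normal.conj_mem inferInstance _ hx k)
  let φ : ↥L →* G :=
    { toFun := fun a => (a : G) * e * (a : G)⁻¹ * e⁻¹
      map_one' := by simp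
      map_mul' := fun a b => by
        have hc : Commute ((a : G)) ((b : G) * e * (b : G)⁻¹ * e⁻¹) :=
          hLab _ a.2 _ (hdL (hNL _ b.2))
        have hc2 : Commute ((b : G) * e * (b : G)⁻¹ * e⁻¹) ((a : G) * e * (a : G)⁻¹ * e⁻¹) :=
          hLab _ (hdL (hNL _ b.2)) _ (hdL (hNL _ a.2))
        calc ((a * b : ↥L) : G) * e * ((a * b : ↥L) : G)⁻¹ * e⁻¹
            = (a : G) * ((b : G) * e * (b : G)⁻¹ * e⁻¹) * (e * (a : G)⁻¹ * e⁻¹) := by
              simp only [Subgroup.coe_mul]; group
          _ = ((b : G) * e * (b : G)⁻¹ * e⁻¹) * ((a : G) * e * (a : G)⁻¹ * e⁻¹) := by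
              rw [hc.eq]; group
          _ = _ := hc2.eq }
  have hker : φ.ker = (cen e).subgroupOf L := by
    ext a
    rw [MonoidHom.mem_ker, Subgroup.mem_subgroupOf, mem_cen]
    show (a : G) * e * (a : G)⁻¹ * e⁻¹ = 1 ↔ _
    rw [mul_inv_eq_one, mul_inv_eq_iff_eq_mul]
  have hne : φ.ker.index ≠ 1 := by
    rw [Ne, Subgroup.index_eq_one, hker, Subgroup.subgroupOf_eq_top]
    intro h
    have hxL : x ∈ L := by
      rw [hLdef]
      exact Subgroup.subset_normalClosure (Set.mem_singleton x)
    have hgL : g * x * g⁻¹ ∈ L :=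
      (Subgroup.normalClosure_normal (s := ({x} : Set G))).conj_mem x (hLdef ▸ hxL) g
    exact he (h hgL)
  obtain ⟨r, hr, hrd⟩ := Nat.exists_prime_and_dvd hne
  refine ⟨r, hr, ?_, ?_⟩
  · refine hrd.trans ?_
    rw [Subgroup.index_ker]
    refine Subgroup.card_dvd_of_le ?_
    rintro _ ⟨a, rfl⟩
    exact hNL _ a.2
  · rw [hker] at hrd
    exact hrd.trans (relIndex_dvd_of_normal _ L)

/-- If the elements moving conjugates of `x` have class sizes prime to that of `x`, then the
centralizer of `x` is normal with abelian quotient. -/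
theorem cen_normal (hout : ∀ e g : G, g * x * g⁻¹ ∉ cen e →
      (cen e).index.Coprime (cen x).index) :
    (cen x).Normal ∧ ∀ a b : G, a * b * a⁻¹ * b⁻¹ ∈ cen x := by
  set C := cen x
  set K0 := C.normalCore
  set J := (Subgroup.center (G ⧸ K0)).comap (QuotientGroup.mk' K0) with hJdef
  have hJ : ∀ t : ℕ, t.Prime → t ∣ C.index → ¬ t ∣ J.index := by
    intro t ht htc
    haveI := Fact.mk ht
    obtain ⟨T⟩ := (inferInstance : Nonempty (Sylow t G))
    have hTJ : (T : Subgroup G) ≤ J := by
      have htop : (Subgroup.centralizer (((T : Subgroup G).map (QuotientGroup.mk' K0) :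
          Subgroup (G ⧸ K0)) : Set (G ⧸ K0))).comap (QuotientGroup.mk' K0) = ⊤ := by
        refine eq_top_of_conj_cover fun e => ?_
        by_cases heK : e ∈ K0
        · refine ⟨1, ?_⟩
          rw [Subgroup.mem_comap, inv_one, one_mul, mul_one,
            show QuotientGroup.mk' K0 e = 1 from (QuotientGroup.eq_one_iff e).mpr heK]
          exact one_mem _
        · obtain ⟨g, hg⟩ : ∃ g : G, g * e * g⁻¹ ∉ C := by
            by_contra h
            push Not at h
            exact heK h
          have hmov : g⁻¹ * x * g⁻¹⁻¹ ∉ cen e := fun h => hg (by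
            rw [mem_cen_comm, mem_cen_conj] at h
            simpa using h)
          have hnd : ¬ t ∣ (cen e).index := fun h =>
            Nat.not_coprime_of_dvd_of_dvd ht.one_lt h htc (hout e _ hmov)
          obtain ⟨T'⟩ := (inferInstance : Nonempty (Sylow t (cen e)))
          obtain ⟨a, ha⟩ := exists_conj_le (T'.2.map (cen e).subtype) T
          refine ⟨a⁻¹, ?_⟩
          rw [Subgroup.mem_comap, Subgroup.mem_centralizer_iff]
          rintro _ ⟨τ, hτ, rfl⟩
          rw [← map_mul, ← map_mul]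
          congr 1
          have hmem : a⁻¹ * τ * a ∈ cen e := by
            have hmap : ((T' : Subgroup (cen e)).map (cen e).subtype).map
                (MulAut.conj a).toMonoidHom = (T : Subgroup G) := by
              refine Subgroup.eq_of_le_of_card_ge ?_ (le_of_eq ?_)
              · rintro _ ⟨u, hu, rfl⟩
                exact ha u hu
              · rw [Subgroup.card_map_of_injective (MulAut.conj a).injective,
                  Subgroup.card_map_of_injective (Subgroup.subtype_injective _),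
                  T'.card_eq_multiplicity, T.card_eq_multiplicity]
                congr 1
                conv_lhs => rw [← Subgroup.card_mul_index (cen e)]
                rw [Nat.factorization_mul Nat.card_pos.ne' Subgroup.index_ne_zero_of_finite]
                simp [Nat.factorization_eq_zero_of_not_dvd hnd]
            rw [← hmap] at hτ
            obtain ⟨u, hu, rfl⟩ := hτ
            simpa [mul_assoc] using Subgroup.map_subtype_le _ hu
          rw [inv_inv]
          calc τ * (a * e * a⁻¹) = a * (a⁻¹ * τ * a * e) * a⁻¹ := by group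
            _ = a * e * a⁻¹ * τ := by rw [mem_cen.mp hmem]; group
      intro τ hτ
      show QuotientGroup.mk' K0 τ ∈ Subgroup.center _
      refine Subgroup.mem_center_iff.mpr fun q => ?_
      obtain ⟨k, rfl⟩ := QuotientGroup.mk'_surjective K0 q
      have hk := htop ▸ Subgroup.mem_top k
      exact (Subgroup.mem_centralizer_iff.mp hk _ (Subgroup.mem_map_of_mem _ hτ)).symm
    exact fun h => T.not_dvd_index (h.trans (Subgroup.index_dvd_of_le hTJ))
  have htop : J ⊔ C = ⊤ := by
    rw [← Subgroup.index_eq_one]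
    by_contra h
    obtain ⟨t, ht, htd⟩ := Nat.exists_prime_and_dvd h
    exact hJ t ht (htd.trans (Subgroup.index_dvd_of_le le_sup_right))
      (htd.trans (Subgroup.index_dvd_of_le le_sup_left))
  have hCn : C.Normal := by
    rw [← Subgroup.normalizer_eq_top_iff, eq_top_iff, ← htop]
    refine sup_le ?_ Subgroup.le_normalizer
    intro j hj
    have key : ∀ j ∈ J, ∀ k ∈ C, j * k * j⁻¹ ∈ C := by
      intro j hj k hk
      have h1 := Subgroup.mem_center_iff.mp hj (QuotientGroup.mk' K0 k)
      have h2 : j * k * j⁻¹ * k⁻¹ ∈ K0 := by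
        rw [← QuotientGroup.eq_one_iff (N := K0)]
        show QuotientGroup.mk' K0 (j * k * j⁻¹ * k⁻¹) = 1
        rw [map_mul, map_mul, map_mul, map_inv, map_inv, ← h1]
        group
      have := C.mul_mem (C.normalCore_le h2) hk
      simpa [mul_assoc] using this
    rw [Subgroup.mem_normalizer_iff]
    intro k
    refine ⟨key j hj k, fun h => ?_⟩
    have := key j⁻¹ (J.inv_mem hj) _ h
    simpa [mul_assoc] using this
  haveI := hCn
  have hK0 : K0 = C := Subgroup.normalCore_eq_self C
  have hCJ : C ≤ J := fun k hk => by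
    show QuotientGroup.mk' K0 k ∈ Subgroup.center _
    rw [show QuotientGroup.mk' K0 k = 1 from (QuotientGroup.eq_one_iff k).mpr (hK0.symm ▸ hk)]
    exact one_mem _
  rw [sup_eq_left.mpr hCJ] at htop
  refine ⟨hCn, fun a b => ?_⟩
  have h1 := Subgroup.mem_center_iff.mp (htop.symm ▸ Subgroup.mem_top a : a ∈ J)
    (QuotientGroup.mk' K0 b)
  rw [← hK0, ← QuotientGroup.eq_one_iff (N := K0)]
  show QuotientGroup.mk' K0 (a * b * a⁻¹ * b⁻¹) = 1
  rw [map_mul, map_mul, map_mul, map_inv, map_inv, ← h1]
  group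

/-- An element of `cen x` of order prime to `diff x` is centralized by `cen (h * x)`. -/
theorem cen_mul_le_of_coprime [(cen x).Normal] {h : G} (hh : h ∈ cen x)
    (hcop : (orderOf h).Coprime (Nat.card (diff x))) : cen (h * x) ≤ cen h ⊓ cen x := by
  intro g hg
  set n := x * (g * x * g⁻¹)⁻¹ with hn
  have hconj : ∀ k : G, Commute h (k * x * k⁻¹) := by
    intro k
    have h1 := Subgroup.Normal.conj_mem inferInstance h hh k⁻¹
    have h2 : h ∈ cen (k * x * k⁻¹) := mem_cen_conj.mpr (by simpa using h1)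
    exact mem_cen.mp h2
  have hnx : n ∈ diff x := by
    have h2 := conj_commute hgood 1 g
    simp only [one_mul, inv_one, mul_one] at h2
    have h3 := h2.inv_right.eq
    have h4 := (diff x).inv_mem (mem_diff x g)
    rw [mul_inv_rev (x⁻¹) (g * x * g⁻¹), inv_inv, ← h3] at h4
    exact h4
  have hnh : Commute h n := by
    have h2 := hconj 1
    simp only [one_mul, inv_one, mul_one] at h2
    exact h2.mul_right (hconj g).inv_right
  have hgg : g * h * g⁻¹ * (g * x * g⁻¹) = h * x := by
    calc g * h * g⁻¹ * (g * x * g⁻¹) = g * (h * x) * g⁻¹ := by group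
      _ = h * x := by rw [mem_cen.mp hg, mul_inv_cancel_right]
  have he : g * h * g⁻¹ = h * n := by
    rw [eq_mul_inv_of_mul_eq hgg, hn, mul_assoc]
  have hn1 : n = 1 := by
    have h3 : (h * n) ^ orderOf h = 1 := by
      rw [← he, conj_pow, pow_orderOf_eq_one, mul_one, mul_inv_cancel]
    rw [hnh.mul_pow, pow_orderOf_eq_one, one_mul] at h3
    have h4 : orderOf n ∣ Nat.card (diff x) := by
      rw [← Nat.card_zpowers]
      exact Subgroup.card_dvd_of_le ((Subgroup.zpowers_le).mpr hnx)
    exact orderOf_eq_one_iff.mp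
      (Nat.eq_one_of_dvd_coprimes hcop (orderOf_dvd_of_pow_eq_one h3) h4)
  refine ⟨mem_cen.mpr ?_, mem_cen.mpr ?_⟩
  · rw [hn1, mul_one] at he
    exact mul_inv_eq_iff_eq_mul.mp he
  · rw [hn] at hn1
    exact mul_inv_eq_iff_eq_mul.mp (mul_inv_eq_one.mp hn1).symm

omit [Finite G] in
theorem diff_le_cen : diff x ≤ cen x := fun n hn => mem_cen.mpr (hgood n hn)

/-- A prime-power part of `x` moved by `G`. -/
theorem exists_part {r : ℕ} [Fact r.Prime] (hr : r ∣ Nat.card (diff x)) :
    ∃ a : G, a ∈ Subgroup.zpowers x ∧ (∃ j : ℕ, orderOf a = r ^ j) ∧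
      a ∉ Subgroup.center G := by
  have hrp : r.Prime := Fact.out
  set M := Nat.card G / r ^ (Nat.card G).factorization r
  have hM : ¬ r ∣ M := Nat.not_dvd_ordCompl hrp Nat.card_pos.ne'
  refine ⟨x ^ M, Subgroup.npow_mem_zpowers x M, ?_, fun hc => ?_⟩
  · have h : orderOf (x ^ M) ∣ r ^ (Nat.card G).factorization r := by
      refine orderOf_dvd_of_pow_eq_one ?_
      rw [← pow_mul, mul_comm, Nat.ordProj_mul_ordCompl_eq_self]
      exact pow_card_eq_one'
    obtain ⟨j, -, hj⟩ := (Nat.dvd_prime_pow hrp).mp h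
    exact ⟨j, hj⟩
  · have hall : ∀ n ∈ diff x, n ^ M = 1 := by
      intro n hn
      have hn0 := hn
      unfold diff at hn
      induction hn using Subgroup.closure_induction with
      | mem b hb =>
        obtain ⟨g, rfl⟩ := hb
        have h2 := conj_commute hgood 1 g
        simp only [one_mul, inv_one, mul_one] at h2
        rw [h2.inv_left.mul_pow, conj_pow, Subgroup.mem_center_iff.mp hc g, mul_inv_cancel_right,
          inv_pow, inv_mul_cancel]
      | one => exact one_pow M
      | mul b c hb hc' ihb ihc =>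
        rw [(diff_comm hgood hb hc').mul_pow, ihb hb, ihc hc', one_mul]
      | inv b hb ihb => rw [inv_pow, ihb hb, inv_one]
    obtain ⟨n, hn⟩ := exists_prime_orderOf_dvd_card' (G := ↥(diff x)) r hr
    have h1 : orderOf n ∣ M := orderOf_dvd_of_pow_eq_one (Subtype.ext (by simpa using hall n n.2))
    exact hM (hn ▸ h1)

end Good

variable [Finite G]

/-- A normal subgroup whose index is prime to `r` contains the Sylow `r`-subgroups. -/
theorem mem_of_pow_prime {r j : ℕ} (hr : r.Prime) {K : Subgroup G} [K.Normal]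
    (hK : ¬ r ∣ K.index) {y : G} (hy : orderOf y = r ^ j) : y ∈ K := by
  rw [← QuotientGroup.eq_one_iff (N := K), ← orderOf_eq_one_iff]
  have h1 : orderOf (y : G ⧸ K) ∣ r ^ j := hy ▸ orderOf_map_dvd (QuotientGroup.mk' K) y
  have h2 : orderOf (y : G ⧸ K) ∣ K.index := by
    rw [Subgroup.index_eq_card]; exact orderOf_dvd_natCard _
  exact Nat.eq_one_of_dvd_coprimes (((hr.coprime_iff_not_dvd).mpr hK).pow_left j) h1 h2

theorem sylow_le {r : ℕ} [Fact r.Prime] {K : Subgroup G} [K.Normal] (hK : ¬ r ∣ K.index)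
    (R : Sylow r G) : (R : Subgroup G) ≤ K := fun y hy => by
  obtain ⟨j, hj⟩ := IsPGroup.iff_orderOf.mp R.2 ⟨y, hy⟩
  exact mem_of_pow_prime Fact.out hK (by rw [← hj, ← Subgroup.orderOf_coe])

theorem exists_sylow_le_cen {r : ℕ} [Fact r.Prime] {y : G} (hy : ¬ r ∣ (cen y).index) :
    ∃ R : Sylow r G, (R : Subgroup G) ≤ cen y := by
  obtain ⟨T⟩ := (inferInstance : Nonempty (Sylow r (cen y)))
  refine ⟨Sylow.ofCard ((T : Subgroup (cen y)).map (cen y).subtype) ?_, Subgroup.map_subtype_le _⟩
  rw [Subgroup.card_map_of_injective (Subgroup.subtype_injective _), T.card_eq_multiplicity]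
  congr 1
  conv_rhs => rw [← Subgroup.card_mul_index (cen y)]
  rw [Nat.factorization_mul Nat.card_pos.ne' Subgroup.index_ne_zero_of_finite]
  simp [Nat.factorization_eq_zero_of_not_dvd hy]

theorem exists_split (g : G) {r : ℕ} (hr : r.Prime) :
    ∃ a ∈ Subgroup.zpowers g, ∃ b ∈ Subgroup.zpowers g,
      g = a * b ∧ (∃ j : ℕ, orderOf a = r ^ j) ∧ ¬ r ∣ orderOf b := by
  set o := orderOf g
  have ho : o ≠ 0 := (orderOf_pos g).ne'
  set A := r ^ o.factorization r
  set B := o / A
  have hAB : A * B = o := Nat.ordProj_mul_ordCompl_eq_self o r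
  have hB : ¬ r ∣ B := Nat.not_dvd_ordCompl hr ho
  have hcop : A.Coprime B := ((hr.coprime_iff_not_dvd).mpr hB).pow_left _
  have hgcd : (1 : ℤ) = A * A.gcdA B + B * A.gcdB B := by
    rw [← Nat.gcd_eq_gcd_ab]; simp [hcop]
  refine ⟨g ^ ((B : ℤ) * A.gcdB B), ⟨_, rfl⟩, g ^ ((A : ℤ) * A.gcdA B), ⟨_, rfl⟩, ?_, ?_, ?_⟩
  · rw [← zpow_add, add_comm, ← hgcd, zpow_one]
  · have h : orderOf (g ^ ((B : ℤ) * A.gcdB B)) ∣ A := by
      refine orderOf_dvd_of_pow_eq_one ?_
      rw [← zpow_natCast, ← zpow_mul,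
        show (B : ℤ) * A.gcdB B * A = ((A * B : ℕ) : ℤ) * A.gcdB B by push_cast; ring, hAB,
        zpow_mul, zpow_natCast, pow_orderOf_eq_one, one_zpow]
    obtain ⟨j, -, hj⟩ := (Nat.dvd_prime_pow hr).mp h
    exact ⟨j, hj⟩
  · have h : orderOf (g ^ ((A : ℤ) * A.gcdA B)) ∣ B := by
      refine orderOf_dvd_of_pow_eq_one ?_
      rw [← zpow_natCast, ← zpow_mul,
        show (A : ℤ) * A.gcdA B * B = ((A * B : ℕ) : ℤ) * A.gcdA B by push_cast; ring, hAB,
        zpow_mul, zpow_natCast, pow_orderOf_eq_one, one_zpow]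
    exact fun h' => hB (h'.trans h)

/-- If `r'`-elements of `K` centralize Sylow `r`-subgroups, the Sylow `r`-subgroup is normal and
centralized by them. -/
theorem sylow_central {r : ℕ} [Fact r.Prime] {K : Subgroup G} [K.Normal] (hK : ¬ r ∣ K.index)
    (h : ∀ k ∈ K, ¬ r ∣ orderOf k → ¬ r ∣ (cen k).index) (R : Sylow r G) :
    (R : Subgroup G).Normal ∧ (∀ y : G, (∃ j : ℕ, orderOf y = r ^ j) → y ∈ (R : Subgroup G)) ∧
      ∀ k ∈ K, ¬ r ∣ orderOf k → (R : Subgroup G) ≤ cen k := by
  have hrp : r.Prime := Fact.out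
  set RK : Sylow r K := R.subtype (sylow_le hK R)
  set H := (RK : Subgroup K) ⊔ Subgroup.centralizer ((RK : Subgroup K) : Set K)
  have hH : H = ⊤ := by
    refine eq_top_of_conj_cover fun w => ?_
    obtain ⟨a, ha, b, hb, rfl, ⟨j, hj⟩, hb'⟩ := exists_split w hrp
    have hbK : ¬ r ∣ orderOf (b : G) := by rwa [Subgroup.orderOf_coe]
    obtain ⟨R1, hR1⟩ := exists_sylow_le_cen (h b b.2 hbK)
    set S1 : Sylow r K := R1.subtype (sylow_le hK R1)
    have hS1 : (S1 : Subgroup K) ≤ cen b := fun u hu => by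
      have h1 : (u : G) ∈ cen (b : G) := hR1 hu
      rw [mem_cen] at h1 ⊢
      exact Subtype.ext h1
    have hab : a ∈ cen b := by
      obtain ⟨i, hi⟩ := Subgroup.mem_zpowers_iff.mp ha
      obtain ⟨l, hl⟩ := Subgroup.mem_zpowers_iff.mp hb
      have h1 : Commute ((a * b) ^ i) ((a * b) ^ l) := (Commute.refl (a * b)).zpow_zpow i l
      rw [hi, hl] at h1
      exact mem_cen.mpr h1
    have hU : IsPGroup r (Subgroup.zpowers (⟨a, hab⟩ : cen b)) :=
      IsPGroup.of_card (n := j) (by
        rw [Nat.card_zpowers, ← Subgroup.orderOf_coe]; exact hj)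
    obtain ⟨f, hf⟩ := exists_conj_le hU (S1.subtype hS1)
    have hfa : (f : K) * a * (f : K)⁻¹ ∈ (S1 : Subgroup K) := hf _ (Subgroup.mem_zpowers _)
    have hfb : (f : K) * b * (f : K)⁻¹ = b := by
      rw [mem_cen.mp f.2, mul_inv_cancel_right]
    obtain ⟨g, hg⟩ := MulAction.exists_smul_eq K S1 RK
    refine ⟨(g * (f : K))⁻¹, ?_⟩
    rw [inv_inv, show g * (f : K) * (a * b) * (g * (f : K))⁻¹ =
      (g * ((f : K) * a * (f : K)⁻¹) * g⁻¹) * (g * ((f : K) * b * (f : K)⁻¹) * g⁻¹) by group, hfb]
    have hmap : ∀ u ∈ (S1 : Subgroup K), g * u * g⁻¹ ∈ (RK : Subgroup K) := fun u hu => by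
      rw [← hg, Sylow.coe_subgroup_smul]
      exact Subgroup.smul_mem_pointwise_smul u (MulAut.conj g) _ hu
    refine Subgroup.mul_mem_sup (hmap _ hfa) (Subgroup.mem_centralizer_iff.mpr fun v hv => ?_)
    have hv' : g⁻¹ * v * g ∈ (S1 : Subgroup K) := by
      rw [← hg] at hv
      obtain ⟨u, hu, rfl⟩ := hv
      show g⁻¹ * (MulAut.conj g u) * g ∈ _
      simp only [MulAut.conj_apply, inv_mul_cancel_left, inv_mul_cancel_right, mul_assoc,
        inv_mul_cancel, mul_one]
      exact hu
    calc v * (g * b * g⁻¹) = g * (g⁻¹ * v * g * b) * g⁻¹ := by group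
      _ = g * b * g⁻¹ * v := by rw [mem_cen.mp (hS1 hv')]; group
  haveI : (RK : Subgroup K).Normal := by
    rw [← Subgroup.normalizer_eq_top_iff, eq_top_iff, ← hH]
    refine sup_le Subgroup.le_normalizer ?_
    exact Subgroup.centralizer_le_normalizer _
  haveI := Sylow.unique_of_normal RK inferInstance
  have huniq : ∀ R1 : Sylow r G, (R1 : Subgroup G) = (R : Subgroup G) := fun R1 => by
    have h1 : R1.subtype (sylow_le hK R1) = RK := Subsingleton.elim _ _
    have h2 := congrArg (fun S : Sylow r K => (S : Subgroup K).map K.subtype) h1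
    simp only [RK, Sylow.coe_subtype, Subgroup.subgroupOf_map_subtype] at h2
    rwa [inf_eq_left.mpr (sylow_le hK R1), inf_eq_left.mpr (sylow_le hK R)] at h2
  refine ⟨⟨fun u hu g => ?_⟩, fun y hy => ?_, fun k hk hk' => ?_⟩
  · rw [← huniq (g • R), Sylow.coe_subgroup_smul]
    exact Subgroup.smul_mem_pointwise_smul u (MulAut.conj g) _ hu
  · obtain ⟨j, hj⟩ := hy
    obtain ⟨Q, hQ⟩ := (IsPGroup.of_card (n := j) (p := r) (G := Subgroup.zpowers y)
      (by rw [Nat.card_zpowers, hj])).exists_le_sylow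
    exact huniq Q ▸ hQ (Subgroup.mem_zpowers y)
  · obtain ⟨R1, hR1⟩ := exists_sylow_le_cen (h k hk hk')
    exact huniq R1 ▸ hR1

/-- The part of the order prime to `n`. -/
theorem exists_coprime_part (e : G) (n : ℕ) (hn : n ≠ 0) :
    ∃ h ∈ Subgroup.zpowers e, (orderOf h).Coprime n ∧
      ∀ y ∈ Subgroup.zpowers e, (orderOf y).Coprime n → y ∈ Subgroup.zpowers h := by
  set o := orderOf e
  have ho : 0 < o := orderOf_pos e
  set A := o.gcd (n ^ o) with hA
  refine ⟨e ^ A, Subgroup.npow_mem_zpowers e A, ?_, fun y hy hcop => ?_⟩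
  · refine Nat.coprime_of_dvd fun r hr hrh hrn => ?_
    have hA0 : 0 < A := Nat.gcd_pos_of_pos_left _ ho
    rw [orderOf_pow_of_dvd hA0.ne' (Nat.gcd_dvd_left _ _)] at hrh
    have h1 : A * r ∣ o := Nat.mul_dvd_of_dvd_div (Nat.gcd_dvd_left _ _) hrh
    have h2 : r ^ o.factorization r ∣ A := by
      refine Nat.dvd_gcd (Nat.ordProj_dvd o r) ?_
      exact (pow_dvd_pow r (Nat.factorization_lt r ho.ne').le).trans (pow_dvd_pow_of_dvd hrn o)
    have h3 : r ^ (o.factorization r + 1) ∣ o :=
      (pow_succ r _ ▸ Nat.mul_dvd_mul h2 dvd_rfl).trans h1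
    exact absurd ((hr.pow_dvd_iff_le_factorization ho.ne').mp h3) (Nat.not_succ_le_self _)
  · obtain ⟨i, rfl⟩ := Subgroup.mem_zpowers_iff.mp hy
    have hcA : (orderOf (e ^ i)).Coprime A :=
      Nat.Coprime.coprime_dvd_right (Nat.gcd_dvd_right _ _) (hcop.pow_right o)
    obtain ⟨m, hm⟩ := exists_pow_eq_self_of_coprime (x := e ^ i) hcA.symm
    rw [← hm]
    refine Subgroup.pow_mem _ (Subgroup.mem_zpowers_iff.mpr ⟨i, ?_⟩) m
    rw [← zpow_natCast, ← zpow_mul, ← zpow_natCast, ← zpow_mul, mul_comm]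

/-- Class sizes inside `K` away from `n`. -/
theorem not_dvd_index {s n : ℕ} [Fact s.Prime] (hn : n ≠ 0) {K : Subgroup G} [K.Normal]
    (hsK : ¬ s ∣ K.index) (hsn : ¬ s ∣ n) {e : G}
    (hpart : ∀ h ∈ Subgroup.zpowers e, (orderOf h).Coprime n → ¬ s ∣ (cen h).index)
    (hcomm : ∀ y ∈ Subgroup.zpowers e, ∀ r j : ℕ, r.Prime → r ∣ n → orderOf y = r ^ j →
      ∀ k ∈ K, ¬ r ∣ orderOf k → y ∈ cen k) :
    ¬ s ∣ (cen e).index := by
  have hs : s.Prime := Fact.out
  obtain ⟨h, hh, hhn, hmax⟩ := exists_coprime_part e n hn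
  obtain ⟨S, hS⟩ := exists_sylow_le_cen (hpart h hh hhn)
  have hle : (S : Subgroup G) ≤ cen e := fun σ hσ => by
    rw [mem_cen_comm]
    refine mem_of_prime_power_parts fun y hy r j hr hj => ?_
    by_cases hrn : r ∣ n
    · refine hcomm y hy r j hr hrn hj σ (sylow_le hsK S hσ) fun hd => ?_
      obtain ⟨i, hi⟩ := IsPGroup.iff_orderOf.mp S.2 ⟨σ, hσ⟩
      have hi' : orderOf σ = s ^ i := by rw [← hi, ← Subgroup.orderOf_coe]
      rw [hi'] at hd
      exact hsn ((Nat.prime_dvd_prime_iff_eq hr hs).mp (hr.dvd_of_dvd_pow hd) ▸ hrn)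
    · rw [mem_cen_comm]
      exact cen_le_cen_of_mem (hmax y hy (hj ▸ (hr.coprime_iff_not_dvd.mpr hrn).pow_left j))
        (hS hσ)
  exact fun hd => S.not_dvd_index (hd.trans (Subgroup.index_dvd_of_le hle))

end CfsgLib.ClassGraph
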