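import Cfsg.Agent.Lib.ClassGraph.Basic

/-!
The prime graph on class sizes has diameter at most three when it is connected.
-/

set_option autoImplicit false
set_option linter.style.haveILetI false

namespace CfsgLib.ClassGraph

open CfsgLib.CentMaxNormal

variable {G : Type*} [Group G] [Finite G]

/-- No path of length at most three joins `p` and `q`. -/
def Far (G : Type*) [Group G] (p q : ℕ) : Prop :=
  ∀ a b : ℕ, a.Prime → b.Prime → ∀ g1 g2 g3 : G,
    p ∣ (cen g1).index → a ∣ (cen g1).index → a ∣ (cen g2).index → b ∣ (cen g2).index →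
    b ∣ (cen g3).index → q ∣ (cen g3).index → False

theorem Far.symm {p q : ℕ} (h : Far G p q) : Far G q p :=
  fun a b ha hb g1 g2 g3 h1 h2 h3 h4 h5 h6 => h b a hb ha g3 g2 g1 h6 h5 h4 h3 h2 h1

/-- With connectivity, two vertices are at distance at most three. -/
theorem not_far {p q : ℕ} (hp : p.Prime) (hq : q.Prime) {x y0 : G} (hx : p ∣ (cen x).index)
    (hy : q ∣ (cen y0).index) (hmin : (cen x).index ≤ (cen y0).index) (hfar : Far G p q)
    (hconn : ∀ U : ℕ → Prop, U p → ¬ U q → ∃ a b : ℕ, a.Prime ∧ b.Prime ∧ U a ∧ ¬ U b ∧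
      ∃ g : G, a * b ∣ (cen g).index) : False := by
  set c := (cen x).index with hcdef
  set d := (cen y0).index with hddef
  have hc1 : 1 < c :=
    lt_of_lt_of_le hp.one_lt (Nat.le_of_dvd (Nat.pos_of_ne_zero Subgroup.index_ne_zero_of_finite) hx)
  have hxnc := not_mem_center hc1
  have hcd : c.Coprime d := Nat.coprime_of_dvd fun a ha hac had =>
    hfar a a ha ha x x y0 hx hac hac hac had hy
  have hlt : c < d := lt_of_le_of_ne hmin fun h => by
    rw [← h, Nat.coprime_self] at hcd; omega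
  have he : (cen (x * y0)).index.Coprime c := by
    by_contra hne
    obtain ⟨a, ha, hae, hac⟩ := Nat.Prime.not_coprime_iff_dvd.mp hne
    have hed : (cen (x * y0)).index.Coprime d := Nat.coprime_of_dvd fun b hb hbe hbd =>
      hfar a b ha hb x (x * y0) y0 hx hac hae hbe hbd hy
    have hec : (cen (x * y0)).index ∣ c := by
      refine hed.dvd_of_dvd_mul_right (?_ : _ ∣ c * d)
      rw [hcdef, hddef, ← index_inf_of_coprime hcd]
      refine Subgroup.index_dvd_of_le fun g hg => mem_cen.mpr ?_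
      exact Commute.mul_right (mem_cen.mp hg.1) (mem_cen.mp hg.2)
    have hde : d ≤ (cen (x * y0)).index := by
      rw [hddef, ← card_cls y0, ← card_cls (x * y0)]
      refine Nat.card_le_card_of_injective (fun w => ⟨x * (w : G), ?_⟩)
        (fun v w h => Subtype.ext (mul_left_cancel (congrArg Subtype.val h)))
      obtain ⟨_, h, rfl⟩ := w
      obtain ⟨u, hu, v, hv, rfl⟩ := exists_mul_of_coprime hcd h
      refine ⟨u, ?_⟩
      show u * (x * y0) * u⁻¹ = x * (u * v * y0 * (u * v)⁻¹)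
      calc u * (x * y0) * u⁻¹ = u * x * y0 * (v * v⁻¹) * u⁻¹ := by group
        _ = x * u * (y0 * v) * v⁻¹ * u⁻¹ := by rw [mem_cen.mp hu]; group
        _ = x * (u * v * y0 * (u * v)⁻¹) := by rw [← mem_cen.mp hv]; group
    have := Nat.le_of_dvd (by omega) hec
    omega
  obtain ⟨hNd, hgood, -⟩ := translate hcd he
  set n := Nat.card (diff x) with hndef
  have hn0 : n ≠ 0 := Nat.card_pos.ne'
  have hout : ∀ e g : G, g * x * g⁻¹ ∉ cen e →
      ∃ r : ℕ, r.Prime ∧ r ∣ d ∧ r ∣ (cen e).index := by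
    intro e g heg
    obtain ⟨r, hr, hrn, hre⟩ := exists_prime_dvd hgood g heg
    exact ⟨r, hr, hrn.trans hNd, hre⟩
  have hcop : ∀ e g : G, g * x * g⁻¹ ∉ cen e → (cen e).index.Coprime c := by
    intro e g heg
    obtain ⟨r, hr, hrd, hre⟩ := hout e g heg
    exact Nat.coprime_of_dvd fun t ht hte htc => hfar t r ht hr x e y0 hx htc hte hre hrd hy
  obtain ⟨hKn, -⟩ := cen_normal hgood hcop
  haveI := hKn
  let U : ℕ → Prop := fun u => u ∣ c ∨ ∃ h ∈ cen x, (orderOf h).Coprime n ∧ u ∣ (cen h).index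
  have hwit : ∀ u, U u → ∃ g1 : G, p ∣ (cen g1).index ∧ u ∣ (cen g1).index := by
    rintro u (hu | ⟨h, hh, hhn, hu⟩)
    · exact ⟨x, hx, hu⟩
    · have hle := cen_mul_le_of_coprime hgood hh hhn
      exact ⟨h * x, hx.trans (Subgroup.index_dvd_of_le (hle.trans inf_le_right)),
        hu.trans (Subgroup.index_dvd_of_le (hle.trans inf_le_left))⟩
  have hUq : ¬ U q := fun hU => by
    obtain ⟨g1, h1, h2⟩ := hwit q hU
    exact hfar q q hq hq g1 g1 g1 h1 h2 h2 h2 h2 h2
  obtain ⟨a, b, ha, hb, hUa, hUb, g, hg⟩ := hconn U (Or.inl hx) hUq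
  have hag : a ∣ (cen g).index := (dvd_mul_right a b).trans hg
  have hbg : b ∣ (cen g).index := (dvd_mul_left b a).trans hg
  obtain ⟨g1, hg1, hg1a⟩ := hwit a hUa
  have hno : ∀ r : ℕ, r.Prime → r ∣ d → ¬ r ∣ (cen g).index := fun r hr hrd hrg =>
    hfar a r ha hr g1 g y0 hg1 hg1a hag hrg hrd hy
  have hgK : g ∈ cen x := by
    rw [mem_cen_comm]
    by_contra h
    obtain ⟨r, hr, hrd, hre⟩ := hout g 1 (by simpa using h)
    exact hno r hr hrd hre
  haveI := Fact.mk hb
  refine not_dvd_index hn0 (K := cen x) (fun h => hUb (Or.inl h))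
    (fun h => hno b hb (h.trans hNd) hbg) ?_ ?_ hbg
  · intro h hh hhn hbh
    exact hUb (Or.inr ⟨h, (Subgroup.zpowers_le.mpr hgK) hh, hhn, hbh⟩)
  intro y hy0 r j hr hrn hj k hk hrk
  haveI := Fact.mk hr
  have hrc : ¬ r ∣ c := fun h =>
    Nat.not_coprime_of_dvd_of_dvd hr.one_lt h (hrn.trans hNd) hcd
  obtain ⟨R⟩ := (inferInstance : Nonempty (Sylow r G))
  have key : ∀ k' ∈ cen x, ¬ r ∣ orderOf k' → ¬ r ∣ (cen k').index := by
    intro k' hk' hrk' hrk''
    obtain ⟨a', ha', ⟨i, hi⟩, hanc⟩ := exists_part hgood (r := r) hrn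
    have hcomm : Commute k' a' := mem_cen.mp (cen_le_cen_of_mem ha' hk')
    have hco : (orderOf k').Coprime (orderOf a') := by
      rw [hi]; exact Nat.Coprime.pow_right _ (hr.coprime_iff_not_dvd.mpr hrk').symm
    have hle := cen_mul_le hcomm hco
    obtain ⟨t, ht, hta⟩ := Nat.exists_prime_and_dvd (ne_of_gt (one_lt_index hanc))
    exact hfar t r ht hr x (k' * a') y0 hx
      (hta.trans (Subgroup.index_dvd_of_le (cen_le_cen_of_mem ha')))
      (hta.trans (Subgroup.index_dvd_of_le (hle.trans inf_le_right)))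
      (hrk''.trans (Subgroup.index_dvd_of_le (hle.trans inf_le_left))) (hrn.trans hNd) hy
  obtain ⟨-, hmem, hcen⟩ := sylow_central hrc key R
  exact hcen k hk hrk (hmem y ⟨j, hj⟩)

end CfsgLib.ClassGraph
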