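import Cfsg.Agent.Lib.ClassGraph.Basic
import Cfsg.Agent.Lib.FrobCompl.Fpf

/-!
A group whose prime graph on class sizes is disconnected is Frobenius modulo its centre.
-/

set_option autoImplicit false
set_option linter.style.haveILetI false

open scoped Pointwise commutatorElement

namespace CfsgLib.ClassGraph

open CfsgLib.CentMaxNormal CfsgLib.TwoClassSizes

variable {G : Type*} [Group G] [Finite G]

theorem quot_mk_eq_one {N : Subgroup G} [N.Normal] {g : G} :
    QuotientGroup.mk' N g = 1 ↔ g ∈ N :=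
  QuotientGroup.eq_one_iff g

theorem pow_orderOf_prime_part {g : G} {r : ℕ} [Fact r.Prime] (hg : ∃ j, orderOf g = r ^ j)
    {h : G} (hh : ¬ r ∣ orderOf h) : (orderOf g).Coprime (orderOf h) := by
  obtain ⟨j, hj⟩ := hg
  rw [hj]
  exact ((Fact.out : r.Prime).coprime_iff_not_dvd.mpr hh).pow_left j

theorem exists_main {P : ℕ → Prop} {x y0 : G} {p q : ℕ} (hp : p.Prime) (hq : q.Prime)
    (hPp : P p) (hPq : ¬ P q) (hx : p ∣ (cen x).index) (hy : q ∣ (cen y0).index)
    (hmin : ∀ g : G, 1 < (cen g).index → (cen x).index ≤ (cen g).index)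
    (hsep : ∀ g : G, ∀ t r : ℕ, t.Prime → r.Prime → t ∣ (cen g).index → r ∣ (cen g).index →
      (P t ↔ P r)) :
    (cen x).Normal ∧ (∀ a b : G, a * b * a⁻¹ * b⁻¹ ∈ cen x) ∧
      (∀ a ∈ cen x, ∀ b ∈ cen x, a * b = b * a) ∧
      (∀ r : ℕ, r.Prime → ∀ a ∈ cen x, (∃ j, orderOf a = r ^ j) → a ∉ Subgroup.center G →
        ¬ r ∣ (cen x).index) ∧
      ∀ e : G, e ∉ cen x → ∀ k ∈ cen x, k ∉ Subgroup.center G → Commute e k →
        (orderOf e).Coprime (orderOf k) → False := by
  set c := (cen x).index with hcdef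
  have hc1 : 1 < c :=
    lt_of_lt_of_le hp.one_lt (Nat.le_of_dvd (Nat.pos_of_ne_zero Subgroup.index_ne_zero_of_finite) hx)
  have hxnc := not_mem_center hc1
  have hcP : ∀ t : ℕ, t.Prime → t ∣ c → P t := fun t ht htc => (hsep x t p ht hp htc hx).mpr hPp
  have hOther : ∀ g : G, ∀ r : ℕ, r.Prime → r ∣ (cen g).index → ¬ P r →
      (cen g).index.Coprime c := fun g r hr hrg hPr =>
    Nat.coprime_of_dvd fun t ht htg htc =>
      hPr ((hsep g t r ht hr htg hrg).mp (hcP t ht htc))
  -- an element whose class size is prime to `c` and not one gives the translation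
  have htrans : ∀ k y : G, (cen k).index.Coprime (cen y).index →
      (cen (k * y)).index.Coprime (cen k).index →
      Nat.card (diff k) ∣ (cen y).index ∧ (∀ n ∈ diff k, Commute n k) ∧
        ∀ n ∈ diff k, ∀ w ∈ cls y, n * w ∈ cls y := fun k y h1 h2 => translate h1 h2
  have hxy : ∀ f : G, ∀ r : ℕ, r.Prime → r ∣ (cen f).index → ¬ P r →
      (cen (x * f)).index.Coprime c := by
    intro f r hr hrf hPr
    have hf1 : 1 < (cen f).index := lt_of_lt_of_le hr.one_lt
      (Nat.le_of_dvd (Nat.pos_of_ne_zero Subgroup.index_ne_zero_of_finite) hrf)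
    by_contra hne
    obtain ⟨a, ha, hae, hac⟩ := Nat.Prime.not_coprime_iff_dvd.mp hne
    have hcop' : c.Coprime (cen f).index := (hOther f r hr hrf hPr).symm
    have hed : (cen (x * f)).index.Coprime (cen f).index := Nat.coprime_of_dvd fun b hb hbe hbf =>
      hPr ((hsep f b r hb hr hbf hrf).mp ((hsep _ b a hb ha hbe hae).mpr (hcP a ha hac)))
    have hec : (cen (x * f)).index ∣ c := by
      refine hed.dvd_of_dvd_mul_right (?_ : _ ∣ c * (cen f).index)
      rw [hcdef, ← index_inf_of_coprime hcop']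
      refine Subgroup.index_dvd_of_le fun g hg => mem_cen.mpr ?_
      exact Commute.mul_right (mem_cen.mp hg.1) (mem_cen.mp hg.2)
    have hde : (cen f).index ≤ (cen (x * f)).index := by
      rw [← card_cls f, ← card_cls (x * f)]
      refine Nat.card_le_card_of_injective (fun w => ⟨x * (w : G), ?_⟩)
        (fun v w h => Subtype.ext (mul_left_cancel (congrArg Subtype.val h)))
      obtain ⟨_, h, rfl⟩ := w
      obtain ⟨u, hu, v, hv, rfl⟩ := exists_mul_of_coprime hcop' h
      refine ⟨u, ?_⟩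
      show u * (x * f) * u⁻¹ = x * (u * v * f * (u * v)⁻¹)
      calc u * (x * f) * u⁻¹ = u * x * f * (v * v⁻¹) * u⁻¹ := by group
        _ = x * u * (f * v) * v⁻¹ * u⁻¹ := by rw [mem_cen.mp hu]; group
        _ = x * (u * v * f * (u * v)⁻¹) := by rw [← mem_cen.mp hv]; group
    have h1 := Nat.le_of_dvd (by omega) hec
    have h2 := hmin f hf1
    have h3 : c = (cen f).index := by omega
    rw [← h3, Nat.coprime_self] at hcop'
    omega
  obtain hcd := (hOther y0 q hq hy hPq).symm
  obtain ⟨hNd, hgood, -⟩ := htrans x y0 hcd (hxy y0 q hq hy hPq)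
  set n := Nat.card (diff x) with hndef
  have hn0 : n ≠ 0 := Nat.card_pos.ne'
  have hnO : ∀ r : ℕ, r.Prime → r ∣ n → ¬ P r ∧ ¬ r ∣ c := fun r hr hrn =>
    ⟨fun h => hPq ((hsep y0 r q hr hq (hrn.trans hNd) hy).mp h),
      fun h => Nat.not_coprime_of_dvd_of_dvd hr.one_lt h (hrn.trans hNd) hcd⟩
  have houtO : ∀ e g : G, g * x * g⁻¹ ∉ cen e →
      ∃ r : ℕ, r.Prime ∧ ¬ P r ∧ r ∣ (cen e).index := by
    intro e g heg
    obtain ⟨r, hr, hrn, hre⟩ := exists_prime_dvd hgood g heg
    exact ⟨r, hr, (hnO r hr hrn).1, hre⟩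
  obtain ⟨hKn, hab⟩ := cen_normal hgood fun e g heg => by
    obtain ⟨r, hr, hPr, hre⟩ := houtO e g heg
    exact hOther e r hr hre hPr
  haveI := hKn
  have hnotK : ∀ e : G, e ∉ cen x → ∃ r : ℕ, r.Prime ∧ ¬ P r ∧ r ∣ (cen e).index := fun e he =>
    houtO e 1 (by simpa [mem_cen_comm] using he)
  -- elements of `cen x` of order prime to `n`
  have hA : ∀ h ∈ cen x, (orderOf h).Coprime n → ∀ r : ℕ, r.Prime → r ∣ (cen h).index → P r := by
    intro h hh hhn r hr hrh
    have hle := cen_mul_le_of_coprime hgood hh hhn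
    exact (hsep (h * x) r p hr hp (hrh.trans (Subgroup.index_dvd_of_le (hle.trans inf_le_left)))
      (hx.trans (Subgroup.index_dvd_of_le (hle.trans inf_le_right)))).mpr hPp
  -- Sylow subgroups for primes of `n`
  have hsyl : ∀ r : ℕ, r.Prime → r ∣ n → ∀ k ∈ cen x, ¬ r ∣ orderOf k → ¬ r ∣ (cen k).index := by
    intro r hr hrn k hk hrk hrd
    haveI := Fact.mk hr
    obtain ⟨a, ha, hpa, hanc⟩ := exists_part hgood (r := r) hrn
    have hcomm : Commute k a := mem_cen.mp (cen_le_cen_of_mem ha hk)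
    have hle := cen_mul_le hcomm (pow_orderOf_prime_part hpa hrk).symm
    obtain ⟨t, ht, hta⟩ := Nat.exists_prime_and_dvd (ne_of_gt (one_lt_index hanc))
    refine (hnO r hr hrn).1 ((hsep (k * a) t r ht hr ?_ ?_).mp
      (hcP t ht (hta.trans (Subgroup.index_dvd_of_le (cen_le_cen_of_mem ha)))))
    · exact hta.trans (Subgroup.index_dvd_of_le (hle.trans inf_le_right))
    · exact hrd.trans (Subgroup.index_dvd_of_le (hle.trans inf_le_left))
  -- the Sylow subgroups for primes of `n` are abelian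
  have hB : ∀ r : ℕ, r.Prime → r ∣ n → ∀ f : G, (∃ j, orderOf f = r ^ j) → f ∈ cen x →
      ¬ r ∣ (cen f).index := by
    intro r hr hrn f hfp hfK hrf
    haveI := Fact.mk hr
    obtain ⟨hPr, hrc⟩ := hnO r hr hrn
    obtain ⟨R⟩ := (inferInstance : Nonempty (Sylow r G))
    obtain ⟨hRn, hRmem, hRcen⟩ := sylow_central hrc (hsyl r hr hrn) R
    haveI := hRn
    have hRK : (R : Subgroup G) ≤ cen x := sylow_le hrc R
    have hRC : ∀ k ∈ cen x, k ∈ (R : Subgroup G) ⊔
        (Subgroup.centralizer ((R : Subgroup G) : Set G) ⊓ cen x) := by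
      intro k hk
      obtain ⟨a, ha, b, hb, rfl, hpa, hb'⟩ := exists_split k hr
      refine Subgroup.mul_mem_sup (hRmem a hpa) ⟨?_, (Subgroup.zpowers_le.mpr hk) hb⟩
      refine Subgroup.mem_centralizer_iff.mpr fun v hv => ?_
      exact mem_cen.mp (hRcen b ((Subgroup.zpowers_le.mpr hk) hb) hb' hv)
    obtain ⟨-, -, htr⟩ := htrans x f (hOther f r hr hrf hPr).symm (hxy f r hr hrf hPr)
    set R0 : Subgroup G := ⁅(R : Subgroup G), (R : Subgroup G)⁆
    haveI : R0.Normal := Subgroup.commutator_normal _ _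
    have hfR := hRmem f hfp
    have hcl : ∀ k ∈ cen x, k * f * k⁻¹ * f⁻¹ ∈ R0 := by
      intro k hk
      have hle : (R : Subgroup G) ⊔ (Subgroup.centralizer ((R : Subgroup G) : Set G) ⊓ cen x) ≤
          (Subgroup.centralizer ({QuotientGroup.mk' R0 f} : Set (G ⧸ R0))).comap
            (QuotientGroup.mk' R0) := by
        refine sup_le (fun u hu => ?_) (fun u hu => ?_)
        · rw [Subgroup.mem_comap, Subgroup.mem_centralizer_singleton_iff]
          rw [← mul_inv_eq_iff_eq_mul, ← mul_inv_eq_one, ← map_mul, ← map_inv, ← map_mul,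
            ← map_inv, ← map_mul, quot_mk_eq_one]
          exact Subgroup.commutator_mem_commutator hu hfR
        · rw [Subgroup.mem_comap, Subgroup.mem_centralizer_singleton_iff, ← map_mul, ← map_mul,
            (Subgroup.mem_centralizer_iff.mp hu.1 f hfR)]
      have h1 := hle (hRC k hk)
      rw [Subgroup.mem_comap, Subgroup.mem_centralizer_singleton_iff] at h1
      rw [← quot_mk_eq_one (N := R0), map_mul, map_mul, map_mul, map_inv, map_inv, h1]
      group
    have hNR0 : ∀ m ∈ diff x, m ∈ R0 := by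
      intro m hm
      obtain ⟨g, hg⟩ := htr m hm f ⟨1, by simp⟩
      obtain ⟨k, hk, v, hv, rfl⟩ := exists_mul_of_coprime
        (H := cen x) (K := cen f) (hOther f r hr hrf hPr).symm g
      have he : m = k * f * k⁻¹ * f⁻¹ := by
        rw [eq_mul_inv_iff_mul_eq]
        refine hg.symm.trans ?_
        show k * v * f * (k * v)⁻¹ = k * f * k⁻¹
        calc k * v * f * (k * v)⁻¹ = k * (v * f) * v⁻¹ * k⁻¹ := by group
          _ = k * f * k⁻¹ := by rw [mem_cen.mp hv]; group
      exact he ▸ hcl k hk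
    haveI := Fact.mk hp
    obtain ⟨T⟩ := (inferInstance : Nonempty (Sylow p G))
    set D : Subgroup G := (R : Subgroup G) ⊓ Subgroup.centralizer ((T : Subgroup G) : Set G)
    set Z : Subgroup G := (R : Subgroup G) ⊓ Subgroup.centralizer ((R : Subgroup G) : Set G)
    have hKT : ∀ g : G, ∃ k ∈ cen x, ∃ m ∈ Subgroup.normalizer ((T : Subgroup G) : Set G),
        g = k * m := by
      intro g
      haveI hKTn : (cen x ⊔ (T : Subgroup G)).Normal := by
        refine ⟨fun u hu k => ?_⟩
        have := (cen x ⊔ (T : Subgroup G)).mul_mem (Subgroup.mem_sup_left (hab k u)) hu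
        simpa [mul_assoc] using this
      have hsup : Subgroup.normalizer ((T : Subgroup G) : Set G) ⊔ cen x = ⊤ := by
        have h := Sylow.normalizer_sup_eq_top (T.subtype (le_sup_right : (T : Subgroup G) ≤ cen x ⊔ T))
        rw [Sylow.coe_subtype, Subgroup.subgroupOf_map_subtype,
          inf_eq_left.mpr (le_sup_right : (T : Subgroup G) ≤ cen x ⊔ T)] at h
        rw [eq_top_iff, ← h]
        exact sup_le le_sup_left (sup_le le_sup_right (Subgroup.le_normalizer.trans le_sup_left))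
      have hg : g ∈ ((cen x ⊔ Subgroup.normalizer ((T : Subgroup G) : Set G) : Subgroup G) : Set G) := by
        rw [sup_comm, hsup]; exact Subgroup.mem_top g
      rw [Subgroup.normal_mul] at hg
      obtain ⟨k, hk, m, hm, h⟩ := Set.mem_mul.mp hg
      exact ⟨k, hk, m, hm, h.symm⟩
    have hcover : (D ⊔ Z).subgroupOf R = ⊤ := by
      refine eq_top_of_conj_cover fun w => ?_
      by_cases hw : r ∣ (cen (w : G)).index
      · have hpw : ¬ p ∣ (cen (w : G)).index := fun h =>
          hPr ((hsep _ p r hp hr h hw).mp hPp)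
        obtain ⟨T1, hT1⟩ := exists_sylow_le_cen hpw
        obtain ⟨g, hg⟩ := MulAction.exists_smul_eq G T T1
        obtain ⟨k, hk, m, hm, rfl⟩ := hKT g
        obtain ⟨a, ha, b, hb, rfl⟩ : ∃ a ∈ (R : Subgroup G),
            ∃ b ∈ Subgroup.centralizer ((R : Subgroup G) : Set G) ⊓ cen x, a * b = k := by
          have h : k ∈ (((R : Subgroup G) ⊔
            (Subgroup.centralizer ((R : Subgroup G) : Set G) ⊓ cen x) : Subgroup G) : Set G) :=
            hRC k hk
          rw [Subgroup.normal_mul] at h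
          exact Set.mem_mul.mp h
        refine ⟨⟨a, ha⟩, ?_⟩
        rw [Subgroup.mem_subgroupOf]
        refine Subgroup.mem_sup_left ⟨SetLike.coe_mem _, Subgroup.mem_centralizer_iff.mpr ?_⟩
        intro τ hτ
        show τ * (a⁻¹ * (w : G) * a) = a⁻¹ * (w : G) * a * τ
        have hτ' : a * b * τ * (a * b)⁻¹ ∈ (T1 : Subgroup G) := by
          rw [← hg, Sylow.coe_subgroup_smul]
          refine ⟨m⁻¹ * τ * m, ?_, ?_⟩
          · have := (Subgroup.mem_normalizer_iff.mp (Subgroup.inv_mem _ hm) τ).mp hτ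
            rw [inv_inv] at this
            exact this
          · show MulAut.conj (a * b * m) (m⁻¹ * τ * m) = _
            rw [MulAut.conj_apply]; group
        have h1 := mem_cen.mp (hT1 hτ')
        set u := a⁻¹ * (w : G) * a with hu
        have huR : u ∈ (R : Subgroup G) :=
          mul_mem (mul_mem (inv_mem ha) w.2) ha
        have hub : b * u = u * b := (Subgroup.mem_centralizer_iff.mp hb.1 u huR).symm
        calc τ * u = (a * b)⁻¹ * (a * b * τ * (a * b)⁻¹ * (w : G)) * (a * b) * (b⁻¹ * u⁻¹ * b * u) := by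
              rw [hu]; group
          _ = (a * b)⁻¹ * ((w : G) * (a * b * τ * (a * b)⁻¹)) * (a * b) * (b⁻¹ * u⁻¹ * b * u) := by
              rw [h1]
          _ = b⁻¹ * u * b * τ * (b⁻¹ * u⁻¹ * (b * u)) := by rw [hu]; group
          _ = b⁻¹ * u * b * τ := by rw [hub]; group
          _ = u * τ := by
              rw [show b⁻¹ * u * b = b⁻¹ * (u * b) by group, ← hub, inv_mul_cancel_left]
      · obtain ⟨R1, hR1⟩ := exists_sylow_le_cen hw
        haveI := Sylow.unique_of_normal R hRn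
        rw [Subsingleton.elim R1 R] at hR1
        refine ⟨1, ?_⟩
        rw [inv_one, one_mul, mul_one, Subgroup.mem_subgroupOf]
        refine Subgroup.mem_sup_right ⟨w.2, Subgroup.mem_centralizer_iff.mpr fun v hv => ?_⟩
        exact mem_cen.mp (hR1 hv)
    have hDZ : (R : Subgroup G) ≤ D ⊔ Z := Subgroup.subgroupOf_eq_top.mp hcover
    have hR0T : R0 ≤ Subgroup.centralizer ((T : Subgroup G) : Set G) := by
      have hsp : ∀ u ∈ D ⊔ Z, ∃ d ∈ D, ∃ z ∈ Z, u = d * z := by
        have hle : D ≤ Subgroup.normalizer (Z : Set G) := by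
          intro d hd
          rw [Subgroup.mem_normalizer_iff]
          have hfix : ∀ d ∈ (R : Subgroup G), ∀ z ∈ Z, d * z * d⁻¹ = z := fun d hd z hz => by
            rw [Subgroup.mem_centralizer_iff.mp hz.2 d hd, mul_inv_cancel_right]
          intro z
          refine ⟨fun hz => (hfix d hd.1 z hz).symm ▸ hz, fun hz => ?_⟩
          have := hfix d⁻¹ (inv_mem hd.1) _ hz
          rw [inv_inv, show d⁻¹ * (d * z * d⁻¹) * d = z by group] at this
          exact this.symm ▸ hz
        intro u hu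
        have h : u ∈ ((D ⊔ Z : Subgroup G) : Set G) := hu
        rw [Subgroup.coe_mul_of_left_le_normalizer_right D Z hle] at h
        obtain ⟨d, hd, z, hz, h'⟩ := Set.mem_mul.mp h
        exact ⟨d, hd, z, hz, h'.symm⟩
      refine Subgroup.commutator_le.mpr fun u hu v hv => ?_
      obtain ⟨d, hd, z, hz, rfl⟩ := hsp u (hDZ hu)
      obtain ⟨d', hd', z', hz', rfl⟩ := hsp v (hDZ hv)
      have h1 : ∀ a ∈ (R : Subgroup G), z * a = a * z := fun a ha =>
        (Subgroup.mem_centralizer_iff.mp hz.2 a ha).symm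
      have h2 : z' * d = d * z' := (Subgroup.mem_centralizer_iff.mp hz'.2 d hd.1).symm
      have e : ⁅d * z, d' * z'⁆ = ⁅d, d'⁆ := by
        calc ⁅d * z, d' * z'⁆ = d * (z * (d' * z')) * z⁻¹ * d⁻¹ * z'⁻¹ * d'⁻¹ := by
              rw [commutatorElement_def]; group
          _ = d * d' * (z' * d⁻¹) * z'⁻¹ * d'⁻¹ := by rw [h1 _ hv]; group
          _ = ⁅d, d'⁆ := by
              rw [show z' * d⁻¹ = d⁻¹ * (d * z') * d⁻¹ by group, ← h2, commutatorElement_def]
              group
      rw [e, commutatorElement_def]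
      exact mul_mem (mul_mem (mul_mem hd.2 hd'.2) (inv_mem hd.2)) (inv_mem hd'.2)
    have hTx : (T : Subgroup G) ≤ cen x := by
      intro τ hτ
      obtain ⟨j, hj⟩ := IsPGroup.iff_orderOf.mp T.2 ⟨τ, hτ⟩
      rw [← Subgroup.orderOf_coe] at hj
      set m := x⁻¹ * (τ * x * τ⁻¹) with hm
      have hmτ : τ * m = m * τ := (Subgroup.mem_centralizer_iff.mp
        (hR0T (hNR0 m (mem_diff x τ))) τ hτ)
      have hpow : ∀ i : ℕ, τ ^ i * x * (τ ^ i)⁻¹ = x * m ^ i := by
        intro i
        induction i with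
        | zero => simp
        | succ i ih =>
          calc τ ^ (i + 1) * x * (τ ^ (i + 1))⁻¹ = τ * (τ ^ i * x * (τ ^ i)⁻¹) * τ⁻¹ := by
                rw [pow_succ']; group
            _ = (τ * x * τ⁻¹) * (τ * m ^ i) * τ⁻¹ := by rw [ih]; group
            _ = x * m * (m ^ i * τ) * τ⁻¹ := by
                rw [(Commute.pow_right (hmτ : Commute τ m) i).eq, hm]; group
            _ = x * m ^ (i + 1) := by rw [pow_succ']; group
      have h1 := hpow (orderOf τ)
      rw [pow_orderOf_eq_one, one_mul, inv_one, mul_one, eq_comm, mul_eq_left] at h1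
      have h2 : orderOf m ∣ n := by
        rw [hndef, ← Nat.card_zpowers]
        exact Subgroup.card_dvd_of_le (Subgroup.zpowers_le.mpr (mem_diff x τ))
      have hpn : ¬ p ∣ n := fun h => (hnO p hp h).1 hPp
      have h3 : m = 1 := orderOf_eq_one_iff.mp (Nat.eq_one_of_dvd_coprimes
        ((hj.symm ▸ (hp.coprime_iff_not_dvd.mpr hpn).pow_left j : (orderOf τ).Coprime n))
        (orderOf_dvd_of_pow_eq_one h1) h2)
      rw [hm, inv_mul_eq_one] at h3
      exact mem_cen.mpr (mul_inv_eq_iff_eq_mul.mp h3.symm)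
    exact T.not_dvd_index (hx.trans (Subgroup.index_dvd_of_le hTx))
  -- no element of `cen x` has a class size on the other side
  have hK : ∀ k ∈ cen x, ∀ s : ℕ, s.Prime → s ∣ (cen k).index → P s := by
    intro k hk s hs hsk
    by_contra hPs
    haveI := Fact.mk hs
    have hsc : ¬ s ∣ c := fun h => hPs (hcP s hs h)
    by_cases hsn : s ∣ n
    · obtain ⟨R⟩ := (inferInstance : Nonempty (Sylow s G))
      obtain ⟨-, hRmem, hRcen⟩ := sylow_central hsc (hsyl s hs hsn) R
      have hle : (R : Subgroup G) ≤ cen k := by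
        intro w hw
        rw [mem_cen_comm]
        obtain ⟨a, ha, b, hb, rfl, hpa, hb'⟩ := exists_split k hs
        have haK := (Subgroup.zpowers_le.mpr hk) ha
        obtain ⟨R1, hR1⟩ := exists_sylow_le_cen (hB s hs hsn a hpa haK)
        haveI := Sylow.unique_of_normal R (sylow_central hsc (hsyl s hs hsn) R).1
        rw [Subsingleton.elim R1 R] at hR1
        exact mul_mem (mem_cen_comm.mp (hR1 hw))
          (mem_cen_comm.mp (hRcen b ((Subgroup.zpowers_le.mpr hk) hb) hb' hw))
      exact R.not_dvd_index (hsk.trans (Subgroup.index_dvd_of_le hle))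
    · refine not_dvd_index hn0 (K := cen x) hsc hsn ?_ ?_ hsk
      · intro h hh hhn hsh
        exact hPs (hA h ((Subgroup.zpowers_le.mpr hk) hh) hhn s hs hsh)
      · intro y hy0 r j hr hrn hj w hw hrw
        haveI := Fact.mk hr
        obtain ⟨R⟩ := (inferInstance : Nonempty (Sylow r G))
        obtain ⟨-, hRmem, hRcen⟩ := sylow_central (hnO r hr hrn).2 (hsyl r hr hrn) R
        exact hRcen w hw hrw (hRmem y ⟨j, hj⟩)
  have hy0K : y0 ∉ cen x := fun h => hPq (hK y0 h q hq hy)
  -- noncentral parts in `cen x` lie on the other side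
  have hside : ∀ r : ℕ, r.Prime → ∀ a ∈ cen x, (∃ j, orderOf a = r ^ j) →
      a ∉ Subgroup.center G → ¬ P r ∧ ¬ r ∣ c := by
    intro r hr a ha hpa hanc
    obtain ⟨j, hj⟩ := hpa
    have hay : a * y0 ∉ cen x := fun h => hy0K (by
      simpa using (cen x).mul_mem ((cen x).inv_mem ha) h)
    obtain ⟨t, ht, hPt, hty⟩ := hnotK _ hay
    have hcop1 : (cen a).index.Coprime (cen y0).index := Nat.coprime_of_dvd fun u hu hua huy =>
      hPq ((hsep y0 u q hu hq huy hy).mp (hK a ha u hu hua))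
    have hcop2 : (cen (a * y0)).index.Coprime (cen a).index :=
      Nat.coprime_of_dvd fun u hu huay hua =>
        hPt ((hsep _ u t hu ht huay hty).mp (hK a ha u hu hua))
    obtain ⟨hd, hca, -⟩ := htrans a y0 hcop1 hcop2
    obtain ⟨g, hg⟩ : ∃ g : G, a⁻¹ * (g * a * g⁻¹) ≠ 1 := by
      by_contra h
      push Not at h
      refine diff_ne_bot hanc ((Subgroup.closure_eq_bot_iff).mpr ?_)
      rintro _ ⟨g, rfl⟩
      exact h g
    set m := a⁻¹ * (g * a * g⁻¹) with hm
    have hma : (a * m) ^ orderOf a = 1 := by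
      rw [hm, mul_inv_cancel_left, conj_pow, pow_orderOf_eq_one, mul_one, mul_inv_cancel]
    rw [(Commute.symm (hca m (mem_diff a g))).mul_pow, pow_orderOf_eq_one, one_mul, hj] at hma
    obtain ⟨i, -, hi⟩ := (Nat.dvd_prime_pow hr).mp (orderOf_dvd_of_pow_eq_one hma)
    have hi0 : i ≠ 0 := fun h => hg (orderOf_eq_one_iff.mp (by rw [hi, h, pow_zero]))
    have hrd : r ∣ (cen y0).index := by
      refine ((dvd_pow_self r hi0).trans ?_).trans hd
      rw [← hi, ← Nat.card_zpowers]
      exact Subgroup.card_dvd_of_le (Subgroup.zpowers_le.mpr (mem_diff a g))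
    exact ⟨fun h => hPq ((hsep y0 r q hr hq hrd hy).mp h),
      fun h => hPq ((hsep y0 r q hr hq hrd hy).mp (hcP r hr h))⟩
  refine ⟨hKn, hab, ?_, fun r hr a ha hpa hanc => (hside r hr a ha hpa hanc).2, ?_⟩
  · intro a ha b hb
    refine (mem_cen.mp (?_ : a ∈ cen b))
    refine mem_of_prime_power_parts fun u hu r j hr hj => ?_
    have huK := (Subgroup.zpowers_le.mpr ha) hu
    by_cases hunc : u ∈ Subgroup.center G
    · exact center_le_cen b hunc
    obtain ⟨hPr, hrc⟩ := hside r hr u huK ⟨j, hj⟩ hunc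
    haveI := Fact.mk hr
    have hall : ∀ k ∈ cen x, ¬ r ∣ (cen k).index := fun k hk h => hPr (hK k hk r hr h)
    obtain ⟨R⟩ := (inferInstance : Nonempty (Sylow r G))
    obtain ⟨hRn, hRmem, -⟩ := sylow_central hrc (fun k hk _ => hall k hk) R
    obtain ⟨R1, hR1⟩ := exists_sylow_le_cen (hall b hb)
    haveI := Sylow.unique_of_normal R hRn
    rw [Subsingleton.elim R1 R] at hR1
    exact hR1 (hRmem u ⟨j, hj⟩)
  · intro e he k hk hknc hek hcop
    have hle := cen_mul_le hek hcop
    obtain ⟨r, hr, hPr, hre⟩ := hnotK e he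
    obtain ⟨t, ht, htk⟩ := Nat.exists_prime_and_dvd (ne_of_gt (one_lt_index hknc))
    exact hPr ((hsep (e * k) t r ht hr
      (htk.trans (Subgroup.index_dvd_of_le (hle.trans inf_le_right)))
      (hre.trans (Subgroup.index_dvd_of_le (hle.trans inf_le_left)))).mp (hK k hk t ht htk))

/-- The quotient by the centre is a Frobenius group with abelian kernel and complement. -/
theorem frobenius {x : G} (hnc : x ∉ Subgroup.center G) (hn : (cen x).Normal)
    (hab : ∀ a b : G, a * b * a⁻¹ * b⁻¹ ∈ cen x)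
    (hK : ∀ a ∈ cen x, ∀ b ∈ cen x, a * b = b * a)
    (hcop : ∀ r : ℕ, r.Prime → ∀ a ∈ cen x, (∃ j, orderOf a = r ^ j) → a ∉ Subgroup.center G →
      ¬ r ∣ (cen x).index)
    (hfpf : ∀ e : G, e ∉ cen x → ∀ k ∈ cen x, k ∉ Subgroup.center G → Commute e k →
      (orderOf e).Coprime (orderOf k) → False) :
    ∃ H : Subgroup (G ⧸ Subgroup.center G), Cfsg.IsFrobeniusComplement H ∧ IsMulCommutative H ∧
      ∀ a ∈ Cfsg.frobeniusKernel H, ∀ b ∈ Cfsg.frobeniusKernel H, a * b = b * a := by
  haveI := hn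
  set π := QuotientGroup.mk' (Subgroup.center G) with hπ
  have hπs : Function.Surjective π := QuotientGroup.mk'_surjective _
  have hπ1 : ∀ g, π g = 1 ↔ g ∈ Subgroup.center G := fun g => quot_mk_eq_one
  set K := (cen x).map π with hKdef
  haveI : K.Normal := hn.map π hπs
  have hmemK : ∀ g, π g ∈ K ↔ g ∈ cen x := by
    intro g
    refine ⟨?_, fun h => ⟨g, h, rfl⟩⟩
    rintro ⟨k, hk, hkg⟩
    have : k⁻¹ * g ∈ Subgroup.center G := by
      rw [← hπ1, map_mul, map_inv, hkg, inv_mul_cancel]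
    simpa using (cen x).mul_mem hk (center_le_cen x this)
  have hidx : K.index = (cen x).index := by
    rw [hKdef, Subgroup.index_map, QuotientGroup.ker_mk', sup_eq_left.mpr (center_le_cen x),
      MonoidHom.range_eq_top.mpr hπs, Subgroup.index_top, mul_one]
  -- prime-power lifts
  have hlift : ∀ r : ℕ, r.Prime → ∀ y : G ⧸ Subgroup.center G, orderOf y = r →
      ∃ g : G, (∃ j, orderOf g = r ^ j) ∧ g ∉ Subgroup.center G ∧
        π g ∈ Subgroup.zpowers y ∧ (y ∈ K → g ∈ cen x) ∧ (y ∉ K → g ∉ cen x) := by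
    intro r hr y hy
    obtain ⟨g, rfl⟩ := hπs y
    obtain ⟨a, ha, b, hb, hab', hpa, hb'⟩ := exists_split g hr
    have hzp : π a ∈ Subgroup.zpowers (π g) := by
      obtain ⟨i, rfl⟩ := Subgroup.mem_zpowers_iff.mp ha
      exact ⟨i, (map_zpow π g i).symm⟩
    have hb1 : π b = 1 := by
      rw [← orderOf_eq_one_iff]
      have h1 : orderOf (π b) ∣ r := by
        rw [← hy, ← Nat.card_zpowers (π g), ← Nat.card_zpowers (π b)]
        refine Subgroup.card_dvd_of_le (Subgroup.zpowers_le.mpr ?_)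
        obtain ⟨i, rfl⟩ := Subgroup.mem_zpowers_iff.mp hb
        exact ⟨i, (map_zpow π g i).symm⟩
      rcases (Nat.dvd_prime hr).mp h1 with h | h
      · exact h
      · exact absurd (h ▸ orderOf_map_dvd π b) hb'
    have hga : π g = π a := by rw [hab', map_mul, hb1, mul_one]
    refine ⟨a, hpa, fun h => ?_, hzp, fun h => ?_, fun h h' => ?_⟩
    · rw [hga, (hπ1 a).mpr h, orderOf_one] at hy
      exact hr.one_lt.ne hy
    · rw [hga] at h; exact (hmemK a).mp h
    · rw [hga] at h; exact h ((hmemK a).mpr h')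
  have hco : (Nat.card K).Coprime K.index := by
    refine Nat.coprime_of_dvd fun r hr h1 h2 => ?_
    haveI := Fact.mk hr
    obtain ⟨y, hy⟩ := exists_prime_orderOf_dvd_card' r h1
    rw [← Subgroup.orderOf_coe] at hy
    obtain ⟨g, hg1, hg2, -, hg3, -⟩ := hlift r hr _ hy
    exact hcop r hr g (hg3 y.2) hg1 hg2 (hidx ▸ h2)
  obtain ⟨H, hH⟩ := Subgroup.exists_right_complement'_of_coprime hco
  have hKb : K ≠ ⊥ := by
    intro h
    have h1 : π x ∈ K := (hmemK x).mpr (self_mem_cen x)
    rw [h, Subgroup.mem_bot, hπ1] at h1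
    exact hnc h1
  have hHb : H ≠ ⊥ := by
    intro h
    rw [h, Subgroup.isComplement'_bot_right] at hH
    have h1 := hidx
    rw [hH, Subgroup.index_top] at h1
    have := one_lt_index hnc
    omega
  have hdisj : ∀ u, u ∈ K → u ∈ H → u = 1 := fun u h1 h2 =>
    Subgroup.mem_bot.mp (hH.disjoint.eq_bot ▸ Subgroup.mem_inf.mpr ⟨h1, h2⟩)
  have hfpf' : ∀ h ∈ H, h ≠ 1 → ∀ k ∈ K, k * h = h * k → k = 1 := by
    intro h hh h1 k hk hkh
    by_contra hk1
    obtain ⟨r, hr, hrk⟩ := Nat.exists_prime_and_dvd (mt orderOf_eq_one_iff.mp hk1)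
    obtain ⟨l, hl, hlh⟩ := Nat.exists_prime_and_dvd (mt orderOf_eq_one_iff.mp h1)
    obtain ⟨a, hpa, hanc, haz, haK, -⟩ := hlift r hr (k ^ (orderOf k / r))
      (orderOf_pow_orderOf_div (orderOf_pos k).ne' hrk)
    have haK' := haK (K.pow_mem hk _)
    obtain ⟨e, hpe, -, hez, -, heK⟩ := hlift l hl (h ^ (orderOf h / l))
      (orderOf_pow_orderOf_div (orderOf_pos h).ne' hlh)
    have heK' : e ∉ cen x := heK fun hh' => by
      have h2 := hdisj _ hh' (H.pow_mem hh _)
      have h3 := orderOf_pow_orderOf_div (orderOf_pos h).ne' hlh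
      rw [h2, orderOf_one] at h3
      exact hl.one_lt.ne h3
    have hrl : r ≠ l := by
      intro h2
      have h3 := hcop r hr a haK' hpa hanc
      refine h3 (hidx ▸ h2 ▸ (hlh.trans ?_))
      rw [hH.symm.index_eq_card, ← Nat.card_zpowers]
      exact Subgroup.card_dvd_of_le (Subgroup.zpowers_le.mpr hh)
    have hco' : (orderOf e).Coprime (orderOf a) := by
      obtain ⟨i, hi⟩ := hpe
      obtain ⟨j, hj⟩ := hpa
      rw [hi, hj]
      exact Nat.Coprime.pow _ _ ((Nat.coprime_primes hl hr).mpr hrl.symm)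
    have hz : e * a * e⁻¹ * a⁻¹ ∈ Subgroup.center G := by
      rw [← hπ1, map_mul, map_mul, map_mul, map_inv, map_inv]
      obtain ⟨i, hi⟩ := Subgroup.mem_zpowers_iff.mp haz
      obtain ⟨j, hj⟩ := Subgroup.mem_zpowers_iff.mp hez
      have hc : Commute (π e) (π a) := by
        rw [← hi, ← hj]
        exact (((Commute.symm hkh).pow_pow _ _).zpow_zpow _ _)
      rw [hc.eq]
      group
    set z := e * a * e⁻¹ * a⁻¹ with hzdef
    have hz' : ∀ g : G, Commute z g := fun g => (Subgroup.mem_center_iff.mp hz g).symm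
    have hza : z ^ orderOf a = 1 := by
      have h2 : (z * a) ^ orderOf a = 1 := by
        rw [hzdef, inv_mul_cancel_right, conj_pow, pow_orderOf_eq_one, mul_one, mul_inv_cancel]
      rwa [(hz' a).mul_pow, pow_orderOf_eq_one, mul_one] at h2
    have hze : z ^ orderOf e = 1 := by
      have h2 : (z * a * e * (a⁻¹ : G)) ^ orderOf e = 1 := by
        have : z * a * e * a⁻¹ = e := by rw [hzdef]; group
        rw [this, pow_orderOf_eq_one]
      have h3 : z * a * e * a⁻¹ = z * (a * e * a⁻¹) := by group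
      rw [h3, (hz' _).mul_pow, conj_pow, pow_orderOf_eq_one, mul_one, mul_inv_cancel, mul_one] at h2
      exact h2
    have hz1 : z = 1 := orderOf_eq_one_iff.mp (Nat.eq_one_of_dvd_coprimes hco'
      (orderOf_dvd_of_pow_eq_one hze) (orderOf_dvd_of_pow_eq_one hza))
    exact hfpf e heK' a haK' hanc
      (mul_inv_eq_iff_eq_mul.mp (mul_inv_eq_one.mp (hzdef ▸ hz1))) hco'
  have hF := CfsgLib.FrobCompl.isFrobeniusComplement_of_fpf hH hKb hHb hfpf'
  refine ⟨H, hF, ⟨⟨fun a b => Subtype.ext ?_⟩⟩, ?_⟩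
  · obtain ⟨g, hg⟩ := hπs (a : G ⧸ Subgroup.center G)
    obtain ⟨g', hg'⟩ := hπs (b : G ⧸ Subgroup.center G)
    have h1 : (a : G ⧸ Subgroup.center G) * b * (a : G ⧸ Subgroup.center G)⁻¹ *
        (b : G ⧸ Subgroup.center G)⁻¹ ∈ K := by
      rw [← hg, ← hg', ← map_inv, ← map_inv, ← map_mul, ← map_mul, ← map_mul, hmemK]
      exact hab g g'
    have h2 := hdisj _ h1 (H.mul_mem (H.mul_mem (H.mul_mem a.2 b.2) (H.inv_mem a.2)) (H.inv_mem b.2))
    exact mul_inv_eq_iff_eq_mul.mp (mul_inv_eq_one.mp h2)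
  · rw [CfsgLib.FrobCompl.frobeniusKernel_eq_of_complement hF hH]
    rintro _ ⟨a, ha, rfl⟩ _ ⟨b, hb, rfl⟩
    rw [← map_mul, ← map_mul, hK a ha b hb]

end CfsgLib.ClassGraph
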