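import Cfsg.Agent.Lib.ClassGraph.Basic

/-!
The prime graph on the class sizes of `p`-singular elements.
-/

set_option autoImplicit false
set_option linter.style.haveILetI false

open scoped commutatorElement

namespace CfsgLib.ClassGraph.PSingular

open CfsgLib.CentMaxNormal CfsgLib.TwoClassSizes

variable {G : Type*} [Group G] [Finite G] {p : ℕ} [Fact p.Prime]

/-- Some class size of a `p`-singular element is divisible by `p` and by a prime of the class size
of `u`, unless the translation lemma fails for `u` and `f`. -/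
theorem exists_edge {u f : G} (hu : ∃ j, orderOf u = p ^ j) (hf : ∃ j, orderOf f = p ^ j)
    (hu1 : 1 < (cen u).index) (hpu : ¬ p ∣ (cen u).index) (hpf : p ∣ (cen f).index)
    (hcop : (cen u).index.Coprime (cen f).index)
    (he : (cen (u * f)).index.Coprime (cen u).index) :
    ∃ g : G, p ∣ orderOf g ∧ p ∣ (cen g).index ∧ ∃ t : ℕ, t.Prime ∧ t ∣ (cen u).index ∧
      t ∣ (cen g).index := by
  classical
  by_contra hno
  have hp : p.Prime := Fact.out
  have hnoc : ∀ g : G, p ∣ orderOf g → p ∣ (cen g).index → (cen g).index.Coprime (cen u).index :=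
    fun g h1 h2 => Nat.coprime_of_dvd fun t ht h3 h4 => hno ⟨g, h1, h2, t, ht, h4, h3⟩
  have hsing : ∀ g : G, (∃ j, orderOf g = p ^ j) → g ≠ 1 → p ∣ orderOf g := by
    intro g hg hg1
    obtain ⟨j, hj⟩ := hg
    rw [hj]
    refine dvd_pow_self p fun h0 => hg1 ?_
    rw [h0, pow_zero] at hj
    exact orderOf_eq_one_iff.mp hj
  have hunc := not_mem_center hu1
  have hu_1 : u ≠ 1 := fun h => hunc (h ▸ Subgroup.one_mem _)
  obtain ⟨-, hgood, htr⟩ := translate hcop he
  -- the translations are `p`-elements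
  obtain ⟨j, hj⟩ := hu
  have hgen : ∀ n ∈ diff u, n ^ p ^ j = 1 := by
    intro n hn
    have hn0 := hn
    unfold diff at hn
    induction hn using Subgroup.closure_induction with
    | mem b hb =>
      obtain ⟨g, rfl⟩ := hb
      have h2 := conj_commute hgood 1 g
      simp only [one_mul, inv_one, mul_one] at h2
      rw [h2.inv_left.mul_pow, conj_pow, inv_pow, ← hj, pow_orderOf_eq_one]
      simp
    | one => exact one_pow _
    | mul b c hb hc' ihb ihc =>
      rw [(diff_comm hgood hb hc').mul_pow, ihb hb, ihc hc', one_mul]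
    | inv b hb ihb => rw [inv_pow, ihb hb, inv_one]
  have hout : ∀ e g : G, g * u * g⁻¹ ∉ cen e → p ∣ (cen e).index := by
    intro e g heg
    obtain ⟨r, hr, hrn, hre⟩ := exists_prime_dvd hgood g heg
    haveI := Fact.mk hr
    obtain ⟨n, hn⟩ := exists_prime_orderOf_dvd_card' (G := ↥(diff u)) r hrn
    have h1 : orderOf n ∣ p ^ j := orderOf_dvd_of_pow_eq_one (Subtype.ext (by simpa using hgen n n.2))
    rw [hn] at h1
    rwa [(Nat.prime_dvd_prime_iff_eq hr hp).mp (hr.dvd_of_dvd_pow h1)] at hre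
  -- `cen u` is normal
  haveI hKn : (cen u).Normal := by
    refine ⟨fun d hd g => ?_⟩
    by_cases hall : ∀ g' : G, g' * u * g'⁻¹ ∈ cen d
    · rw [mem_cen_comm, mem_cen_conj]
      have h1 := hall g⁻¹
      rwa [inv_inv] at h1
    push Not at hall
    obtain ⟨g', hg'⟩ := hall
    have hpd := hout d g' hg'
    have hc : (cen d).index.Coprime (cen u).index := by
      by_cases hdo : p ∣ orderOf d
      · exact hnoc d hdo hpd
      · have hco : (orderOf d).Coprime (orderOf u) := by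
          rw [hj]; exact ((hp.coprime_iff_not_dvd.mpr hdo).symm).pow_right j
        have hcm : Commute d u := mem_cen.mp hd
        have hle := cen_mul_le hcm hco
        have h1 : p ∣ orderOf (d * u) := by
          refine (hsing u ⟨j, hj⟩ hu_1).trans ?_
          rw [hcm.orderOf_mul_eq_mul_orderOf_of_coprime hco]
          exact dvd_mul_left _ _
        exact Nat.Coprime.coprime_dvd_left (Subgroup.index_dvd_of_le (hle.trans inf_le_left))
          (hnoc _ h1 (hpd.trans (Subgroup.index_dvd_of_le (hle.trans inf_le_left))))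
    obtain ⟨k, hk, v, hv, rfl⟩ := exists_mul_of_coprime hc.symm g
    rw [show k * v * d * (k * v)⁻¹ = k * (v * d) * v⁻¹ * k⁻¹ by group, mem_cen.mp hv,
      show k * (d * v) * v⁻¹ * k⁻¹ = k * d * k⁻¹ by group]
    exact (cen u).mul_mem ((cen u).mul_mem hk hd) ((cen u).inv_mem hk)
  -- the Sylow subgroup
  obtain ⟨R⟩ := (inferInstance : Nonempty (Sylow p G))
  have hsyl : ∀ k ∈ cen u, ¬ p ∣ orderOf k → ¬ p ∣ (cen k).index := by
    intro k hk hk' hpk
    have hco : (orderOf k).Coprime (orderOf u) := by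
      rw [hj]; exact ((hp.coprime_iff_not_dvd.mpr hk').symm).pow_right j
    have hcm : Commute k u := mem_cen.mp hk
    have hle := cen_mul_le hcm hco
    have h1 : p ∣ orderOf (k * u) := by
      refine (hsing u ⟨j, hj⟩ hu_1).trans ?_
      rw [hcm.orderOf_mul_eq_mul_orderOf_of_coprime hco]
      exact dvd_mul_left _ _
    obtain ⟨t, ht, htu⟩ := Nat.exists_prime_and_dvd (ne_of_gt hu1)
    exact hno ⟨k * u, h1, hpk.trans (Subgroup.index_dvd_of_le (hle.trans inf_le_left)), t, ht, htu,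
      htu.trans (Subgroup.index_dvd_of_le (hle.trans inf_le_right))⟩
  obtain ⟨hRn, hRmem, hRcen⟩ := sylow_central hpu hsyl R
  haveI := hRn
  have hRK : (R : Subgroup G) ≤ cen u := sylow_le hpu R
  have hRC : ∀ k ∈ cen u, ∃ a ∈ (R : Subgroup G),
      ∃ b ∈ Subgroup.centralizer ((R : Subgroup G) : Set G), k = a * b := by
    intro k hk
    obtain ⟨a, ha, b, hb, rfl, hpa, hb'⟩ := exists_split k hp
    refine ⟨a, hRmem a hpa, b, Subgroup.mem_centralizer_iff.mpr fun v hv => ?_, rfl⟩
    exact mem_cen.mp (hRcen b ((Subgroup.zpowers_le.mpr hk) hb) hb' hv)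
  set R0 : Subgroup G := ⁅(R : Subgroup G), (R : Subgroup G)⁆
  have hfR := hRmem f hf
  have hNR0 : ∀ m ∈ diff u, m ∈ R0 := by
    intro m hm
    obtain ⟨g, hg⟩ := htr m hm f ⟨1, by simp⟩
    obtain ⟨k, hk, v, hv, rfl⟩ := exists_mul_of_coprime (H := cen u) (K := cen f) hcop g
    obtain ⟨a, ha, b, hb, rfl⟩ := hRC k hk
    have he' : m = ⁅a, f⁆ := by
      rw [commutatorElement_def, eq_mul_inv_iff_mul_eq]
      refine hg.symm.trans ?_
      show a * b * v * f * (a * b * v)⁻¹ = a * f * a⁻¹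
      calc a * b * v * f * (a * b * v)⁻¹ = a * b * (v * f) * v⁻¹ * b⁻¹ * a⁻¹ := by group
        _ = a * (b * f) * b⁻¹ * a⁻¹ := by rw [mem_cen.mp hv]; group
        _ = a * f * a⁻¹ := by rw [← Subgroup.mem_centralizer_iff.mp hb f hfR]; group
    exact he' ▸ Subgroup.commutator_mem_commutator ha hfR
  obtain ⟨t, ht, htu⟩ := Nat.exists_prime_and_dvd (ne_of_gt hu1)
  haveI := Fact.mk ht
  have htp : t ≠ p := fun h => hpu (h ▸ htu)
  obtain ⟨T⟩ := (inferInstance : Nonempty (Sylow t G))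
  set D : Subgroup G := (R : Subgroup G) ⊓ Subgroup.centralizer ((T : Subgroup G) : Set G)
  set Z : Subgroup G := (R : Subgroup G) ⊓ Subgroup.centralizer ((R : Subgroup G) : Set G)
  have hcover : (D ⊔ Z).subgroupOf R = ⊤ := by
    refine eq_top_of_conj_cover fun w => ?_
    by_cases hw : p ∣ (cen (w : G)).index
    · obtain ⟨i, hi⟩ := IsPGroup.iff_orderOf.mp R.2 w
      have hi' : orderOf (w : G) = p ^ i := (Subgroup.orderOf_coe w).trans hi
      have hw1 : (w : G) ≠ 1 := fun h => by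
        rw [h, cen_eq_top_iff.mpr (one_mem _), Subgroup.index_top] at hw
        exact hp.one_lt.ne' (Nat.dvd_one.mp hw)
      have hwc : (cen u).index.Coprime (cen (w : G)).index :=
        (hnoc _ (hsing _ ⟨i, hi'⟩ hw1) hw).symm
      -- the class of `w` is a class of `R`
      have hcls : ∀ g : G, ∃ a ∈ (R : Subgroup G), g * (w : G) * g⁻¹ = a * (w : G) * a⁻¹ := by
        intro g
        obtain ⟨k, hk, v, hv, rfl⟩ := exists_mul_of_coprime hwc g
        obtain ⟨a, ha, b, hb, rfl⟩ := hRC k hk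
        refine ⟨a, ha, ?_⟩
        calc a * b * v * (w : G) * (a * b * v)⁻¹ = a * b * (v * w) * v⁻¹ * b⁻¹ * a⁻¹ := by group
          _ = a * (b * w) * b⁻¹ * a⁻¹ := by rw [mem_cen.mp hv]; group
          _ = a * w * a⁻¹ := by rw [← Subgroup.mem_centralizer_iff.mp hb w w.2]; group
      letI : MulAction T (cls (w : G)) :=
        { smul := fun τ y => ⟨(τ : G) * y * (τ : G)⁻¹, by
            obtain ⟨g, hg⟩ := y.2
            exact ⟨τ * g, by rw [← hg]; group⟩⟩
          one_smul := fun y => Subtype.ext (by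
            show (((1 : T) : G)) * y * (((1 : T) : G))⁻¹ = y
            simp)
          mul_smul := fun a b y => Subtype.ext (by
            show ((a * b : T) : G) * y * ((a * b : T) : G)⁻¹ =
              (a : G) * ((b : G) * y * (b : G)⁻¹) * (a : G)⁻¹
            rw [Subgroup.coe_mul]
            group) }
      have hnd : ¬ t ∣ Nat.card (cls (w : G)) := by
        rw [card_cls]
        exact fun h => Nat.not_coprime_of_dvd_of_dvd ht.one_lt htu h hwc
      obtain ⟨⟨y, g, hgy⟩, hy⟩ := T.2.nonempty_fixed_point_of_prime_not_dvd_card _ hnd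
      obtain ⟨a, ha, hga⟩ := hcls g
      refine ⟨⟨a, ha⟩⁻¹, ?_⟩
      rw [Subgroup.mem_subgroupOf]
      refine Subgroup.mem_sup_left (Subgroup.mem_inf.mpr ⟨SetLike.coe_mem _,
        Subgroup.mem_centralizer_iff.mpr fun τ hτ => ?_⟩)
      simp only [Subgroup.coe_mul, Subgroup.coe_inv, inv_inv]
      have h1 : τ * y * τ⁻¹ = y := congrArg Subtype.val (hy ⟨τ, hτ⟩)
      rw [show a * (w : G) * a⁻¹ = y by rw [← hga, ← hgy]]
      exact mul_inv_eq_iff_eq_mul.mp h1
    · obtain ⟨R1, hR1⟩ := exists_sylow_le_cen hw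
      haveI := Sylow.unique_of_normal R hRn
      rw [Subsingleton.elim R1 R] at hR1
      refine ⟨1, ?_⟩
      rw [inv_one, one_mul, mul_one, Subgroup.mem_subgroupOf]
      refine Subgroup.mem_sup_right (Subgroup.mem_inf.mpr ⟨w.2,
        Subgroup.mem_centralizer_iff.mpr fun v hv => ?_⟩)
      exact mem_cen.mp (hR1 hv)
  have hDZ : (R : Subgroup G) ≤ D ⊔ Z := Subgroup.subgroupOf_eq_top.mp hcover
  have hR0T : R0 ≤ Subgroup.centralizer ((T : Subgroup G) : Set G) := by
    have hfix : ∀ d ∈ (R : Subgroup G), ∀ z ∈ Z, Commute z d := fun d hd z hz =>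
      (Subgroup.mem_centralizer_iff.mp (Subgroup.mem_inf.mp hz).2 d hd).symm
    have hsp : ∀ x ∈ (R : Subgroup G), ∃ d ∈ D, ∃ z ∈ Z, x = d * z := by
      intro x hx
      have hle : D ≤ Subgroup.normalizer (Z : Set G) := by
        intro d hd
        rw [Subgroup.mem_normalizer_iff]
        intro z
        have hdR := (Subgroup.mem_inf.mp hd).1
        refine ⟨fun hz => ?_, fun hz => ?_⟩
        · rw [← (hfix d hdR z hz).eq, mul_inv_cancel_right]; exact hz
        · have h1 := (hfix d hdR _ hz).eq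
          rw [inv_mul_cancel_right] at h1
          rw [(mul_left_cancel h1 : z = d * z * d⁻¹)]
          exact hz
      have h : x ∈ ((D ⊔ Z : Subgroup G) : Set G) := hDZ hx
      rw [Subgroup.coe_mul_of_left_le_normalizer_right D Z hle] at h
      obtain ⟨d, hd, z, hz, h'⟩ := Set.mem_mul.mp h
      exact ⟨d, hd, z, hz, h'.symm⟩
    refine Subgroup.commutator_le.mpr fun x hx y hy => ?_
    obtain ⟨d, hd, z, hz, rfl⟩ := hsp x hx
    obtain ⟨d', hd', z', hz', rfl⟩ := hsp y hy
    have e : ⁅d * z, d' * z'⁆ = ⁅d, d'⁆ := by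
      calc ⁅d * z, d' * z'⁆ = d * (z * (d' * z')) * z⁻¹ * d⁻¹ * z'⁻¹ * d'⁻¹ := by
            rw [commutatorElement_def]; group
        _ = d * d' * (z' * d⁻¹) * z'⁻¹ * d'⁻¹ := by rw [(hfix _ hy z hz).eq]; group
        _ = ⁅d, d'⁆ := by
            rw [((hfix d (Subgroup.mem_inf.mp hd).1 z' hz').inv_right).eq, commutatorElement_def]
            group
    rw [e, commutatorElement_def]
    exact mul_mem (mul_mem (mul_mem (Subgroup.mem_inf.mp hd).2 (Subgroup.mem_inf.mp hd').2)
      (inv_mem (Subgroup.mem_inf.mp hd).2)) (inv_mem (Subgroup.mem_inf.mp hd').2)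
  refine T.not_dvd_index (htu.trans (Subgroup.index_dvd_of_le fun τ hτ => ?_))
  obtain ⟨i, hi⟩ := IsPGroup.iff_orderOf.mp T.2 ⟨τ, hτ⟩
  rw [← Subgroup.orderOf_coe] at hi
  set m := u⁻¹ * (τ * u * τ⁻¹) with hm
  have hmτ : τ * m = m * τ :=
    Subgroup.mem_centralizer_iff.mp (hR0T (hNR0 m (mem_diff u τ))) τ hτ
  have hpow : ∀ l : ℕ, τ ^ l * u * (τ ^ l)⁻¹ = u * m ^ l := by
    intro l
    induction l with
    | zero => simp
    | succ l ih =>
      calc τ ^ (l + 1) * u * (τ ^ (l + 1))⁻¹ = τ * (τ ^ l * u * (τ ^ l)⁻¹) * τ⁻¹ := by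
            rw [pow_succ']; group
        _ = (τ * u * τ⁻¹) * (τ * m ^ l) * τ⁻¹ := by rw [ih]; group
        _ = u * m * (m ^ l * τ) * τ⁻¹ := by
            rw [(Commute.pow_right (hmτ : Commute τ m) l).eq, hm]; group
        _ = u * m ^ (l + 1) := by rw [pow_succ']; group
  have h1 := hpow (orderOf τ)
  rw [pow_orderOf_eq_one, one_mul, inv_one, mul_one, eq_comm, mul_eq_left] at h1
  have h2 : orderOf m ∣ p ^ j := orderOf_dvd_of_pow_eq_one (hgen m (mem_diff u τ))
  have h1' : orderOf m ∣ t ^ i := by rw [← hi]; exact orderOf_dvd_of_pow_eq_one h1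
  have h3 : m = 1 := orderOf_eq_one_iff.mp (Nat.eq_one_of_dvd_coprimes
    (Nat.Coprime.pow i j ((Nat.coprime_primes ht hp).mpr htp)) h1' h2)
  rw [hm, inv_mul_eq_one] at h3
  exact mem_cen.mpr (mul_inv_eq_iff_eq_mul.mp h3.symm)

/-- Two primes of class sizes of `p`-singular elements are at distance at most three. -/
theorem exists_path (hZ : ¬ p ∣ Nat.card (Subgroup.center G)) {r s : ℕ} {x y : G}
    (hr : r.Prime) (hs : s.Prime) (hx : p ∣ orderOf x) (hy : p ∣ orderOf y)
    (hrx : r ∣ (cen x).index) (hsy : s ∣ (cen y).index) :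
    ∃ a b : ℕ, a.Prime ∧ b.Prime ∧ ∃ g1 g2 g3 : G, p ∣ orderOf g1 ∧ p ∣ orderOf g2 ∧
      p ∣ orderOf g3 ∧ r ∣ (cen g1).index ∧ a ∣ (cen g1).index ∧ a ∣ (cen g2).index ∧
      b ∣ (cen g2).index ∧ b ∣ (cen g3).index ∧ s ∣ (cen g3).index := by
  classical
  have hp : p.Prime := Fact.out
  obtain ⟨P⟩ := (inferInstance : Nonempty (Sylow p G))
  -- a representative with its `p`-part in `P`
  have hrep : ∀ x : G, p ∣ orderOf x → ∃ x' u : G, p ∣ orderOf x' ∧
      (cen x').index = (cen x).index ∧ u ∈ (P : Subgroup G) ∧ u ≠ 1 ∧ (cen x') ≤ cen u ∧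
      (∃ j, orderOf u = p ^ j) ∧ 1 < (cen u).index := by
    intro x hx
    obtain ⟨a, ha, b, hb, hab, hpa, hb'⟩ := exists_split x hp
    have hcab : Commute a b := by
      obtain ⟨i, rfl⟩ := Subgroup.mem_zpowers_iff.mp ha
      obtain ⟨l, rfl⟩ := Subgroup.mem_zpowers_iff.mp hb
      exact (Commute.refl x).zpow_zpow i l
    have ha1 : a ≠ 1 := by
      rintro rfl
      rw [one_mul] at hab
      exact hb' (hab ▸ hx)
    obtain ⟨j, hj⟩ := hpa
    obtain ⟨g, hg⟩ := exists_conj_mem P hj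
    have hanc : a ∉ Subgroup.center G := fun h => by
      refine hZ (Nat.dvd_trans ?_ (Subgroup.card_dvd_of_le (Subgroup.zpowers_le.mpr h)))
      rw [Nat.card_zpowers, hj]
      refine dvd_pow_self p fun h0 => ha1 ?_
      rw [h0, pow_zero] at hj
      exact orderOf_eq_one_iff.mp hj
    refine ⟨g * x * g⁻¹, g * a * g⁻¹, ?_, index_cen_conj g x, hg, fun h => ha1 ?_, ?_, ⟨j, ?_⟩, ?_⟩
    · rwa [← MulAut.conj_apply, MulEquiv.orderOf_eq]
    · exact conj_eq_one_iff.mp h
    · intro k hk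
      rw [mem_cen_conj] at hk ⊢
      exact cen_le_cen_of_mem ha hk
    · rw [← hj, ← MulAut.conj_apply, MulEquiv.orderOf_eq]
    · rw [index_cen_conj]; exact one_lt_index hanc
  obtain ⟨x', u, hx', hidx, huP, hu1, hxu, hup, hu⟩ := hrep x hx
  obtain ⟨y', v, hy', hidy, hvP, hv1, hyv, hvp, hv⟩ := hrep y hy
  have hux : ∀ {a : ℕ}, a ∣ (cen u).index → a ∣ (cen x').index := fun h =>
    h.trans (Subgroup.index_dvd_of_le hxu)
  have hvy : ∀ {a : ℕ}, a ∣ (cen v).index → a ∣ (cen y').index := fun h =>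
    h.trans (Subgroup.index_dvd_of_le hyv)
  by_cases hcop : (cen u).index.Coprime (cen v).index
  swap
  · obtain ⟨a, ha, hau, hav⟩ := Nat.Prime.not_coprime_iff_dvd.mp hcop
    exact ⟨a, a, ha, ha, x', x', y', hx', hx', hy', hidx ▸ hrx, hux hau, hux hau, hux hau,
      hvy hav, hidy ▸ hsy⟩
  -- products stay `p`-singular
  have hprod : ∀ {u v : G}, u ∈ (P : Subgroup G) → v ∈ (P : Subgroup G) → 1 < (cen u).index →
      (cen u).index.Coprime (cen v).index → p ∣ orderOf (u * v) := by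
    intro u v hu' hv' h1 hc
    obtain ⟨j, hj⟩ := IsPGroup.iff_orderOf.mp P.2 ⟨u * v, mul_mem hu' hv'⟩
    rw [← Subgroup.orderOf_coe] at hj
    rw [hj]
    refine dvd_pow_self p fun h0 => ?_
    rw [h0, pow_zero] at hj
    have h2 : u * v = 1 := orderOf_eq_one_iff.mp hj
    have h3 : cen v = cen u := by
      rw [eq_inv_of_mul_eq_one_right h2]
      ext k
      rw [mem_cen, mem_cen]
      exact ⟨fun h => (Commute.inv_right_iff.mp h : Commute k u),
        fun h => Commute.inv_right (h : Commute k u)⟩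
    rw [h3, Nat.coprime_self] at hc
    omega
  -- the general argument for a smaller class
  have main : ∀ {r s : ℕ} {u v x' y' : G}, r.Prime → s.Prime → p ∣ orderOf x' → p ∣ orderOf y' →
      u ∈ (P : Subgroup G) → v ∈ (P : Subgroup G) → (∃ j, orderOf u = p ^ j) →
      (∃ j, orderOf v = p ^ j) → cen x' ≤ cen u → cen y' ≤ cen v →
      r ∣ (cen x').index → s ∣ (cen y').index → 1 < (cen u).index →
      (cen u).index < (cen v).index → (cen u).index.Coprime (cen v).index →
      ∃ a b : ℕ, a.Prime ∧ b.Prime ∧ ∃ g1 g2 g3 : G, p ∣ orderOf g1 ∧ p ∣ orderOf g2 ∧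
        p ∣ orderOf g3 ∧ r ∣ (cen g1).index ∧ a ∣ (cen g1).index ∧ a ∣ (cen g2).index ∧
        b ∣ (cen g2).index ∧ b ∣ (cen g3).index ∧ s ∣ (cen g3).index := by
    intro r s u v x' y' hr hs hx' hy' huP hvP hup hvp hxu hyv hrx hsy hu hlt hcop
    have hux : ∀ {a : ℕ}, a ∣ (cen u).index → a ∣ (cen x').index := fun h =>
      h.trans (Subgroup.index_dvd_of_le hxu)
    have hvy : ∀ {a : ℕ}, a ∣ (cen v).index → a ∣ (cen y').index := fun h =>
      h.trans (Subgroup.index_dvd_of_le hyv)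
    by_cases hmix : ∃ a b : ℕ, a.Prime ∧ b.Prime ∧ a ∣ (cen u).index ∧ b ∣ (cen v).index ∧
        a ∣ (cen (u * v)).index ∧ b ∣ (cen (u * v)).index
    · obtain ⟨a, b, ha, hb, hau, hbv, hae, hbe⟩ := hmix
      exact ⟨a, b, ha, hb, x', u * v, y', hx', hprod huP hvP hu hcop, hy', hrx, hux hau, hae, hbe,
        hvy hbv, hsy⟩
    have hec : (cen (u * v)).index ∣ (cen u).index * (cen v).index := by
      rw [← index_inf_of_coprime hcop]
      refine Subgroup.index_dvd_of_le fun g hg => mem_cen.mpr ?_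
      exact Commute.mul_right (mem_cen.mp hg.1) (mem_cen.mp hg.2)
    have he : (cen (u * v)).index.Coprime (cen u).index := by
      by_contra hne
      obtain ⟨a, ha, hae, hau⟩ := Nat.Prime.not_coprime_iff_dvd.mp hne
      have hed : (cen (u * v)).index.Coprime (cen v).index := Nat.coprime_of_dvd fun b hb hbe hbv =>
        hmix ⟨a, b, ha, hb, hau, hbv, hae, hbe⟩
      have hde : (cen v).index ≤ (cen (u * v)).index := by
        rw [← card_cls v, ← card_cls (u * v)]
        refine Nat.card_le_card_of_injective (fun w => ⟨u * (w : G), ?_⟩)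
          (fun a b h => Subtype.ext (mul_left_cancel (congrArg Subtype.val h)))
        obtain ⟨_, h, rfl⟩ := w
        obtain ⟨k, hk, l, hl, rfl⟩ := exists_mul_of_coprime hcop h
        refine ⟨k, ?_⟩
        show k * (u * v) * k⁻¹ = u * (k * l * v * (k * l)⁻¹)
        calc k * (u * v) * k⁻¹ = k * u * v * (l * l⁻¹) * k⁻¹ := by group
          _ = u * k * (v * l) * l⁻¹ * k⁻¹ := by rw [mem_cen.mp hk]; group
          _ = u * (k * l * v * (k * l)⁻¹) := by rw [← mem_cen.mp hl]; group
      have := Nat.le_of_dvd (by omega) (hed.dvd_of_dvd_mul_right hec)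
      omega
    -- the translations force `p` into the larger class
    have hpv : p ∣ (cen v).index := by
      obtain ⟨hd, hgood, -⟩ := translate hcop he
      obtain ⟨j, hj⟩ := hup
      obtain ⟨g, hg⟩ : ∃ g : G, u⁻¹ * (g * u * g⁻¹) ≠ 1 := by
        by_contra h
        push Not at h
        refine diff_ne_bot (not_mem_center hu) (Subgroup.closure_eq_bot_iff.mpr ?_)
        rintro _ ⟨g, rfl⟩
        exact h g
      have h1 : (u⁻¹ * (g * u * g⁻¹)) ^ p ^ j = 1 := by
        have h2 := conj_commute hgood 1 g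
        simp only [one_mul, inv_one, mul_one] at h2
        rw [h2.inv_left.mul_pow, conj_pow, inv_pow, ← hj, pow_orderOf_eq_one]
        simp
      obtain ⟨i, -, hi⟩ := (Nat.dvd_prime_pow hp).mp (orderOf_dvd_of_pow_eq_one h1)
      have hi0 : i ≠ 0 := fun h => hg (orderOf_eq_one_iff.mp (by rw [hi, h, pow_zero]))
      refine ((dvd_pow_self p hi0).trans ?_).trans hd
      rw [← hi, ← Nat.card_zpowers]
      exact Subgroup.card_dvd_of_le (Subgroup.zpowers_le.mpr (mem_diff u g))
    have hpu : ¬ p ∣ (cen u).index := fun h => Nat.not_coprime_of_dvd_of_dvd hp.one_lt h hpv hcop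
    obtain ⟨g, hg, hpg, t, ht, htu, htg⟩ := exists_edge hup hvp hu hpu hpv hcop he
    exact ⟨t, p, ht, hp, x', g, y', hx', hg, hy', hrx, hux htu, htg, hpg, hvy hpv, hsy⟩
  rcases lt_trichotomy (cen u).index (cen v).index with hlt | heq | hgt
  · exact main hr hs hx' hy' huP hvP hup hvp hxu hyv (hidx ▸ hrx) (hidy ▸ hsy) hu hlt hcop
  · rw [heq, Nat.coprime_self] at hcop; omega
  · obtain ⟨a, b, ha, hb, g1, g2, g3, h1, h2, h3, h4, h5, h6, h7, h8, h9⟩ :=
      main hs hr hy' hx' hvP huP hvp hup hyv hxu (hidy ▸ hsy) (hidx ▸ hrx) hv hgt hcop.symm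
    exact ⟨b, a, hb, ha, g3, g2, g1, h3, h2, h1, h9, h8, h7, h6, h5, h4⟩

end CfsgLib.ClassGraph.PSingular
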