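import Cfsg.Agent.Lib.ClassGraph.Basic
import Cfsg.Agent.Lib.FrobCompl.Fpf

/-!
Groups whose two largest conjugacy class sizes are coprime.
-/

set_option autoImplicit false
set_option linter.style.haveILetI false

open scoped Pointwise

namespace CfsgLib.ClassGraph

open CfsgLib.CentMaxNormal CfsgLib.TwoClassSizes

variable {G : Type*} [Group G] [Finite G]

/-- For classes of coprime sizes the product of the classes is the class of the product. -/
theorem conj_mul_mem_cls {x y : G} (hcop : (cen x).index.Coprime (cen y).index) (g k : G) :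
    g * x * g⁻¹ * (k * y * k⁻¹) ∈ cls (x * y) := by
  obtain ⟨u, hu, v, hv, huv⟩ := exists_mul_of_coprime hcop (g⁻¹ * k)
  refine ⟨g * u, ?_⟩
  have h1 : k = g * u * v := by
    calc k = g * (g⁻¹ * k) := by group
      _ = g * u * v := by rw [huv]; group
  show g * u * (x * y) * (g * u)⁻¹ = _
  calc g * u * (x * y) * (g * u)⁻¹ = g * (u * x) * y * u⁻¹ * g⁻¹ := by group
    _ = g * x * u * y * (v * v⁻¹) * u⁻¹ * g⁻¹ := by rw [mem_cen.mp hu]; group
    _ = g * x * u * (y * v) * v⁻¹ * u⁻¹ * g⁻¹ := by group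
    _ = g * x * g⁻¹ * (k * y * k⁻¹) := by rw [← mem_cen.mp hv, h1]; group

theorem index_le_index_mul {x y : G} (hcop : (cen x).index.Coprime (cen y).index) :
    (cen x).index ≤ (cen (x * y)).index ∧ (cen y).index ≤ (cen (x * y)).index := by
  simp only [← card_cls]
  refine ⟨Nat.card_le_card_of_injective
      (fun w : cls x => (⟨(w : G) * y, ?_⟩ : cls (x * y))) ?_,
    Nat.card_le_card_of_injective (fun w : cls y => (⟨x * (w : G), ?_⟩ : cls (x * y))) ?_⟩
  · obtain ⟨_, g, rfl⟩ := w
    simpa using conj_mul_mem_cls hcop g 1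
  · exact fun a b h => Subtype.ext (mul_right_cancel (congrArg Subtype.val h))
  · obtain ⟨_, g, rfl⟩ := w
    simpa using conj_mul_mem_cls hcop 1 g
  · exact fun a b h => Subtype.ext (mul_left_cancel (congrArg Subtype.val h))

theorem index_mul_dvd {x y : G} (hcop : (cen x).index.Coprime (cen y).index) :
    (cen (x * y)).index ∣ (cen x).index * (cen y).index := by
  rw [← index_inf_of_coprime hcop]
  refine Subgroup.index_dvd_of_le fun g hg => mem_cen.mpr ?_
  exact Commute.mul_right (mem_cen.mp hg.1) (mem_cen.mp hg.2)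

theorem eq_of_le_index {H K : Subgroup G} (hle : H ≤ K) (he : H.index = K.index) : H = K := by
  refine le_antisymm hle (Subgroup.relIndex_eq_one.mp ?_)
  exact Nat.eq_of_mul_eq_mul_right (Nat.pos_of_ne_zero Subgroup.index_ne_zero_of_finite)
    ((Subgroup.relIndex_mul_index hle).trans (he.trans (one_mul _).symm))

omit [Finite G] in
theorem mem_of_pow_mem_of_coprime {a : G} {K : Subgroup G} {i : ℕ} (h : a ^ i ∈ K)
    (hc : (orderOf a).Coprime i) : a ∈ K := by
  obtain ⟨k, hk⟩ := exists_pow_eq_self_of_coprime hc.symm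
  exact hk ▸ K.pow_mem h k

omit [Finite G] in
theorem commute_of_conj_eq {f a z : G} {i j : ℕ} (hz : z ∈ Subgroup.center G)
    (h : f * a * f⁻¹ = z * a) (hf : f ^ i ∈ Subgroup.center G) (ha : a ^ j ∈ Subgroup.center G)
    (hc : i.Coprime j) : Commute f a := by
  have hza : Commute z a := (Subgroup.mem_center_iff.mp hz a).symm
  have h1 : z ^ j = 1 := by
    have h2 : (f * a * f⁻¹) ^ j = a ^ j := by
      rw [conj_pow, Subgroup.mem_center_iff.mp ha f, mul_inv_cancel_right]
    rwa [h, hza.mul_pow, mul_eq_right] at h2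
  have h3 : ∀ k : ℕ, f ^ k * a * (f ^ k)⁻¹ = z ^ k * a := by
    intro k
    induction k with
    | zero => simp
    | succ k ih =>
      calc f ^ (k + 1) * a * (f ^ (k + 1))⁻¹ = f * (f ^ k * a * (f ^ k)⁻¹) * f⁻¹ := by
            rw [pow_succ']; group
        _ = f * z ^ k * a * f⁻¹ := by rw [ih]; group
        _ = z ^ k * (f * a * f⁻¹) := by
            rw [Subgroup.mem_center_iff.mp (Subgroup.pow_mem _ hz k) f]; group
        _ = z ^ (k + 1) * a := by rw [h, ← mul_assoc, ← pow_succ]
  have h4 : z ^ i = 1 := by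
    have := h3 i
    rwa [← Subgroup.mem_center_iff.mp hf a, mul_inv_cancel_right, eq_comm, mul_eq_right] at this
  have h5 : z = 1 := orderOf_eq_one_iff.mp
    (Nat.eq_one_of_dvd_coprimes hc (orderOf_dvd_of_pow_eq_one h4) (orderOf_dvd_of_pow_eq_one h1))
  rw [h5, one_mul] at h
  exact mul_inv_eq_iff_eq_mul.mp h

/-- An element all of whose prime power parts lie in `K` lies in `K`. -/
theorem mem_of_forall_prime_pow (K : Subgroup G) (w : G)
    (h : ∀ a ∈ Subgroup.zpowers w, ∀ r j : ℕ, r.Prime → orderOf a = r ^ j → a ∈ K) : w ∈ K := by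
  obtain ⟨o, ho⟩ : ∃ o, orderOf w = o := ⟨_, rfl⟩
  induction o using Nat.strong_induction_on generalizing w with
  | _ o ih =>
    by_cases h1 : orderOf w = 1
    · rw [orderOf_eq_one_iff.mp h1]; exact K.one_mem
    obtain ⟨r, hr, hrd⟩ := Nat.exists_prime_and_dvd h1
    obtain ⟨a, ha, b, hb, hab, ⟨j, hj⟩, hb'⟩ := exists_split w hr
    rw [hab]
    refine K.mul_mem (h a ha r j hr hj) (ih (orderOf b) ?_ b
      (fun c hc => h c (Subgroup.zpowers_le.mpr hb hc)) rfl)
    rw [← ho]
    refine lt_of_le_of_ne (Nat.le_of_dvd (orderOf_pos w) (orderOf_dvd_of_mem_zpowers hb)) ?_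
    exact fun he => hb' (he ▸ hrd)

omit [Finite G] in
theorem cen_center_mul {z u : G} (hz : z ∈ Subgroup.center G) : cen (z * u) = cen u := by
  ext g
  rw [mem_cen, mem_cen, ← mul_assoc, Subgroup.mem_center_iff.mp hz g, mul_assoc, mul_assoc]
  exact mul_left_cancel_iff

omit [Finite G] in
theorem center_le_cen (a : G) : Subgroup.center G ≤ cen a := fun _ hz =>
  mem_cen.mpr (Subgroup.mem_center_iff.mp hz a).symm

omit [Finite G] in
theorem pow_relIndex_mem {K C : Subgroup G} [K.Normal] {a : G} (ha : a ∈ C) :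
    a ^ K.relIndex C ∈ K :=
  Subgroup.pow_index_mem (K.subgroupOf C) ⟨a, ha⟩

/-- If `diff x` has order prime to the class size of `x`, then `x` lies in it modulo the center. -/
theorem mem_center_sup_diff {x : G} (hgood : ∀ v ∈ diff x, Commute v x)
    (hc : (Nat.card (diff x)).Coprime (cen x).index) : x ∈ Subgroup.center G ⊔ diff x := by
  classical
  haveI : Fintype (cls x) := Fintype.ofFinite _
  letI : CommGroup ↥(diff x) :=
    { (inferInstance : Group ↥(diff x)) with
      mul_comm := fun a b => Subtype.ext (diff_comm hgood a.2 b.2) }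
  let D : cls x → ↥(diff x) := fun w => ⟨x⁻¹ * w, by
    obtain ⟨_, g, rfl⟩ := w
    exact mem_diff x g⟩
  let P : ↥(diff x) := ∏ w, D w
  obtain ⟨r, hr⟩ : ∃ r : ↥(diff x), r ^ (cen x).index = P := (powCoprime hc).surjective P
  refine Subgroup.mem_sup_of_normal_left.mpr ⟨x * r, ?_, (r : G)⁻¹, (diff x).inv_mem r.2,
    mul_inv_cancel_right x (r : G)⟩
  refine Subgroup.mem_center_iff.mpr fun g => ?_
  let κ : ↥(diff x) →* ↥(diff x) :=
    { toFun := fun v => ⟨g * v * g⁻¹, (diff_normal x).conj_mem _ v.2 g⟩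
      map_one' := Subtype.ext (by simp)
      map_mul' := fun a b => Subtype.ext (by simp [mul_assoc]) }
  let δ : ↥(diff x) := ⟨x⁻¹ * (g * x * g⁻¹), mem_diff x g⟩
  let σ : cls x ≃ cls x := (MulAut.conj g).toEquiv.subtypeEquiv (fun w => by
    constructor
    · rintro ⟨k, rfl⟩; exact ⟨g * k, by simp [mul_assoc]⟩
    · rintro ⟨k, hk⟩
      refine ⟨g⁻¹ * k, ?_⟩
      have hk' : k * x * k⁻¹ = g * w * g⁻¹ := hk
      calc g⁻¹ * k * x * (g⁻¹ * k)⁻¹ = g⁻¹ * (k * x * k⁻¹) * g := by group
        _ = w := by rw [hk']; group)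
  have hκ : ∀ w, κ (D w) = δ⁻¹ * D (σ w) := fun w => Subtype.ext (by
    show g * (x⁻¹ * (w : G)) * g⁻¹ = (x⁻¹ * (g * x * g⁻¹))⁻¹ * (x⁻¹ * (g * w * g⁻¹))
    group)
  have hP : κ P = δ⁻¹ ^ (cen x).index * P := by
    show κ (∏ w, D w) = _
    rw [map_prod]
    simp only [hκ]
    rw [Finset.prod_mul_distrib, Finset.prod_const, Equiv.prod_comp σ D, Finset.card_univ,
      ← Nat.card_eq_fintype_card, card_cls]
  have hδ : δ = r * (κ r)⁻¹ := by
    refine (powCoprime hc).injective ?_
    show δ ^ (cen x).index = (r * (κ r)⁻¹) ^ (cen x).index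
    rw [mul_pow, inv_pow (κ r), ← map_pow, hr, hP, mul_inv_rev, inv_pow, inv_inv, ← mul_assoc,
      mul_inv_cancel, one_mul]
  have h5 : x⁻¹ * (g * x * g⁻¹) * (g * r * g⁻¹) = r := by
    have := congrArg Subtype.val hδ
    simp only [Subgroup.coe_mul, InvMemClass.coe_inv, δ, κ, MonoidHom.coe_mk,
      OneHom.coe_mk] at this
    rw [this, inv_mul_cancel_right]
  calc g * (x * r) = x * (x⁻¹ * (g * x * g⁻¹) * (g * r * g⁻¹)) * g := by group
    _ = x * r * g := by rw [h5]

/-- The hypotheses: `m > n > 1` coprime are the two largest class sizes, attained at `y` and `x`. -/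
structure TwoLargest (m n : ℕ) (x y : G) : Prop where
  hmn : n < m
  hn : 1 < n
  hcop : m.Coprime n
  htop : ∀ z : G, (cen z).index ≤ m
  hsecond : ∀ z : G, (cen z).index < m → (cen z).index ≤ n
  hx : (cen x).index = n
  hy : (cen y).index = m

namespace TwoLargest

variable {m n : ℕ} {x y : G} (h : TwoLargest m n x y)

include h

theorem cen_eq_x {z : G} (hz : cen z ≤ cen x) : cen z = cen x := by
  have hd : n ∣ (cen z).index := h.hx ▸ Subgroup.index_dvd_of_le hz
  refine eq_of_le_index hz ?_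
  rw [h.hx]
  refine le_antisymm (h.hsecond z (lt_of_le_of_ne (h.htop z) fun he => ?_))
    (Nat.le_of_dvd (Nat.pos_of_ne_zero Subgroup.index_ne_zero_of_finite) hd)
  have h1 := Nat.Coprime.eq_one_of_dvd h.hcop.symm (he ▸ hd)
  have := h.hn
  omega

theorem cen_eq_y {b z : G} (hb : (cen b).index = m) (hz : cen z ≤ cen b) : cen z = cen b :=
  eq_of_le_index hz (le_antisymm (hb ▸ h.htop z) (Nat.le_of_dvd
    (Nat.pos_of_ne_zero Subgroup.index_ne_zero_of_finite) (Subgroup.index_dvd_of_le hz)))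

theorem good {a : G} (ha : (cen a).index.Coprime m) :
    Nat.card (diff a) ∣ m ∧ (∀ v ∈ diff a, Commute v a) ∧ a ∈ Subgroup.center G ⊔ diff a := by
  have hc : (cen a).index.Coprime (cen y).index := by rwa [h.hy]
  have he : (cen (a * y)).index = m :=
    le_antisymm (h.htop _) (h.hy ▸ (index_le_index_mul hc).2)
  obtain ⟨h1, h2, -⟩ := translate hc (by rw [he]; exact ha.symm)
  rw [h.hy] at h1
  exact ⟨h1, h2, mem_center_sup_diff h2 ((Nat.Coprime.coprime_dvd_right h1 ha).symm)⟩

theorem good_x :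
    Nat.card (diff x) ∣ m ∧ (∀ v ∈ diff x, Commute v x) ∧ x ∈ Subgroup.center G ⊔ diff x :=
  h.good (by rw [h.hx]; exact h.hcop.symm)

theorem exists_x0 : ∃ u ∈ diff x, cen u = cen x := by
  obtain ⟨z, hz, u, hu, he⟩ := Subgroup.mem_sup_of_normal_left.mp h.good_x.2.2
  exact ⟨u, hu, by rw [← he, cen_center_mul hz]⟩

theorem mem_center_of_mem_cen_x {a : G} (ha : a ∈ cen x) (ho : (orderOf a).Coprime m) :
    a ∈ Subgroup.center G := by
  obtain ⟨u, hu, hcu⟩ := h.exists_x0
  have hau : Commute a u := mem_cen.mp (hcu.symm ▸ ha)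
  have hoc : (orderOf a).Coprime (orderOf u) :=
    (ho.coprime_dvd_right h.good_x.1).coprime_dvd_right (Subgroup.orderOf_dvd_natCard _ hu)
  have hle : cen (a * u) ≤ cen a ⊓ cen u := cen_mul_le hau hoc
  have heq := h.cen_eq_x ((hle.trans inf_le_right).trans hcu.le)
  have hd : (cen a).index ∣ n := by
    rw [← h.hx, ← heq]
    exact Subgroup.index_dvd_of_le (hle.trans inf_le_left)
  obtain ⟨hcard, -, hmem⟩ := h.good (h.hcop.symm.coprime_dvd_left hd)
  obtain ⟨z, hz, d, hd', he⟩ := Subgroup.mem_sup_of_normal_left.mp hmem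
  refine mem_of_pow_mem_of_coprime (i := m) ?_ ho
  have hzd : Commute z d := (Subgroup.mem_center_iff.mp hz d).symm
  rw [← he, hzd.mul_pow, orderOf_dvd_iff_pow_eq_one.mp
    ((Subgroup.orderOf_dvd_natCard _ hd').trans hcard), mul_one]
  exact Subgroup.pow_mem _ hz m

theorem index_eq_m {a : G} (ha : (cen a).index.Coprime n) (hac : a ∉ Subgroup.center G) :
    (cen a).index = m := by
  by_contra hne
  have hs : (cen a).index < m := lt_of_le_of_ne (h.htop a) hne
  have hpos : 0 < (cen a).index := Nat.pos_of_ne_zero Subgroup.index_ne_zero_of_finite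
  have hc : (cen a).index.Coprime (cen x).index := by rwa [h.hx]
  obtain ⟨-, hge⟩ := index_le_index_mul hc
  rw [h.hx] at hge
  have hdvd := index_mul_dvd hc
  rw [h.hx] at hdvd
  have he : (cen (a * x)).index = n := by
    refine le_antisymm (h.hsecond _ (lt_of_le_of_ne (h.htop _) fun hem => ?_)) hge
    rw [hem] at hdvd
    have := Nat.le_of_dvd hpos (h.hcop.dvd_of_dvd_mul_right hdvd)
    omega
  obtain ⟨h1, h2, -⟩ := translate hc (by rw [he]; exact ha.symm)
  rw [h.hx] at h1
  have hmem := mem_center_sup_diff h2 ((Nat.Coprime.coprime_dvd_right h1 ha).symm)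
  have hdisj : Disjoint (diff a) (diff x) := by
    rw [disjoint_iff, ← Subgroup.card_eq_one]
    exact Nat.eq_one_of_dvd_coprimes h.hcop.symm
      ((Subgroup.card_dvd_of_le inf_le_left).trans h1)
      ((Subgroup.card_dvd_of_le inf_le_right).trans h.good_x.1)
  obtain ⟨u, hu, hcu⟩ := h.exists_x0
  have hM : diff a ≤ Subgroup.center G := fun v hv => by
    refine h.mem_center_of_mem_cen_x ?_ ?_
    · rw [← hcu]
      exact mem_cen.mpr
        (Subgroup.commute_of_normal_of_disjoint _ _ inferInstance inferInstance hdisj v u hv hu)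
    · exact (h.hcop.symm.coprime_dvd_left ((Subgroup.orderOf_dvd_natCard _ hv).trans h1))
  exact hac ((sup_le le_rfl hM : Subgroup.center G ⊔ diff a ≤ _) hmem)

theorem inf_cen_eq {b : G} (hb : (cen b).index = m) (hbo : (orderOf b).Coprime m) :
    cen x ⊓ cen b = Subgroup.center G := by
  refine le_antisymm (fun w hw => ?_) (le_inf (center_le_cen x) (center_le_cen b))
  refine mem_of_forall_prime_pow _ w fun a ha r j hr hj => ?_
  have hax : a ∈ cen x ⊓ cen b := Subgroup.zpowers_le.mpr hw ha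
  by_cases hrm : r ∣ m
  · by_contra hac
    have hoc : (orderOf a).Coprime (orderOf b) := by
      rw [hj]
      exact (hbo.symm.coprime_dvd_left hrm).pow_left j
    have hab : Commute a b := mem_cen.mp hax.2
    have hle := cen_mul_le hab hoc
    have heq := h.cen_eq_y hb (hle.trans inf_le_right)
    have hba : cen b ≤ cen a := heq ▸ hle.trans inf_le_left
    have hd : (cen a).index ∣ m := hb ▸ Subgroup.index_dvd_of_le hba
    have ham := h.index_eq_m (h.hcop.coprime_dvd_left hd) hac
    have hbx : b ∈ cen x := by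
      rw [mem_cen_comm, h.cen_eq_y ham hba, ← mem_cen_comm]
      exact hax.1
    have h1 : 1 < (cen b).index := by rw [hb]; exact h.hn.trans h.hmn
    exact not_mem_center h1 (h.mem_center_of_mem_cen_x hbx hbo)
  · exact h.mem_center_of_mem_cen_x hax.1
      (hj ▸ ((hr.coprime_iff_not_dvd).mpr hrm).pow_left j)

theorem exists_b : ∃ b : G, (orderOf b).Coprime m ∧ cen b = cen y := by
  obtain ⟨r, hr, hrn⟩ := Nat.exists_prime_and_dvd h.hn.ne'
  have hrm : ¬ r ∣ m := fun hd => Nat.not_coprime_of_dvd_of_dvd hr.one_lt hd hrn h.hcop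
  haveI := Fact.mk hr
  obtain ⟨R, hR⟩ := exists_sylow_le_cen (y := y) (r := r) (by rwa [h.hy])
  obtain ⟨a, haR, hac⟩ : ∃ a ∈ (R : Subgroup G), a ∉ Subgroup.center G := by
    by_contra! hall
    exact R.not_dvd_index (hrn.trans (h.hx ▸
      Subgroup.index_dvd_of_le (fun w hw => center_le_cen x (hall w hw))))
  obtain ⟨u, hu, v, hv, huv, ⟨j, hj⟩, hv'⟩ := exists_split y hr
  have hfin : ∀ c : G, c ∉ Subgroup.center G → (orderOf c).Coprime m → cen y ≤ cen c →
      ∃ b : G, (orderOf b).Coprime m ∧ cen b = cen y := by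
    intro c hc hco hle
    have hd : (cen c).index ∣ m := h.hy ▸ Subgroup.index_dvd_of_le hle
    exact ⟨c, hco, (h.cen_eq_y (h.index_eq_m (h.hcop.coprime_dvd_left hd) hc) hle).symm⟩
  by_cases huc : u ∈ Subgroup.center G
  · have hvy : cen v = cen y := by rw [huv, cen_center_mul huc]
    obtain ⟨i, hi⟩ := IsPGroup.iff_orderOf.mp R.2 ⟨a, haR⟩
    rw [Subgroup.orderOf_mk] at hi
    have hav : Commute a v := mem_cen.mp (hvy.symm ▸ hR haR)
    have hle := cen_mul_le hav (hi ▸ ((hr.coprime_iff_not_dvd).mpr hv').pow_left i)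
    have heq := h.cen_eq_y h.hy ((hle.trans inf_le_right).trans hvy.le)
    exact hfin a hac (hi ▸ ((hr.coprime_iff_not_dvd).mpr hrm).pow_left i)
      (heq ▸ hle.trans inf_le_left)
  · exact hfin u huc (hj ▸ ((hr.coprime_iff_not_dvd).mpr hrm).pow_left j)
      (cen_le_cen_of_mem hu)

theorem inf_eq : cen x ⊓ cen y = Subgroup.center G := by
  obtain ⟨b, hbo, hb⟩ := h.exists_b
  rw [← hb]
  exact h.inf_cen_eq (by rw [hb, h.hy]) hbo

theorem index_center : (Subgroup.center G).index = n * m := by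
  rw [← h.inf_eq, index_inf_of_coprime (by rw [h.hx, h.hy]; exact h.hcop.symm), h.hx, h.hy]

theorem relIndex_y : (Subgroup.center G).relIndex (cen y) = n := by
  have h1 := Subgroup.relIndex_mul_index (center_le_cen y)
  rw [h.index_center, h.hy] at h1
  exact Nat.eq_of_mul_eq_mul_right (by have := h.hmn; omega) h1

theorem relIndex_x : (Subgroup.center G).relIndex (cen x) = m := by
  have h1 := Subgroup.relIndex_mul_index (center_le_cen x)
  rw [h.index_center, h.hx, mul_comm n m] at h1
  exact Nat.eq_of_mul_eq_mul_right (by have := h.hn; omega) h1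

theorem index_T_elem {c : G} (hcy : c ∈ cen y) (hco : (orderOf c).Coprime m)
    (hcc : c ∉ Subgroup.center G) : (cen c).index = m := by
  by_contra hne
  obtain ⟨hcard, hgood, -⟩ := h.good_x
  obtain ⟨u, hu, hcu⟩ := h.exists_x0
  letI : CommGroup ↥(diff x) :=
    { (inferInstance : Group ↥(diff x)) with
      mul_comm := fun a b => Subtype.ext (diff_comm hgood a.2 b.2) }
  let κ : ↥(diff x) →* ↥(diff x) :=
    { toFun := fun v => ⟨c * v * c⁻¹, (diff_normal x).conj_mem _ v.2 c⟩
      map_one' := Subtype.ext (by simp)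
      map_mul' := fun a b => Subtype.ext (by simp [mul_assoc]) }
  let φ : ↥(diff x) →* ↥(diff x) :=
    { toFun := fun v => v⁻¹ * κ v
      map_one' := by simp
      map_mul' := fun a b => by rw [map_mul, mul_inv_rev]; ac_rfl }
  have hker : ∀ v : ↥(diff x), v ∈ φ.ker ↔ Commute c (v : G) := fun v => by
    rw [MonoidHom.mem_ker]
    show v⁻¹ * κ v = 1 ↔ _
    rw [inv_mul_eq_one, eq_comm, ← Subtype.coe_inj]
    exact mul_inv_eq_iff_eq_mul
  have hpow : ∀ v : ↥(diff x), v ^ m = 1 := fun v =>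
    orderOf_dvd_iff_pow_eq_one.mp ((orderOf_dvd_natCard v).trans hcard)
  have hdisj : Disjoint φ.range φ.ker := by
    rw [disjoint_iff, eq_bot_iff]
    rintro v ⟨⟨p, hp⟩, hvk⟩
    rw [Subgroup.mem_bot]
    have hv : κ v = v := Subtype.ext (mul_inv_eq_iff_eq_mul.mpr ((hker v).mp hvk))
    have hp' : κ p = p * v := by rw [← hp]; exact (mul_inv_cancel_left p (κ p)).symm
    have hit : ∀ i : ℕ, c ^ i * (p : G) * (c ^ i)⁻¹ = ((p * v ^ i : ↥(diff x)) : G) := by
      intro i
      induction i with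
      | zero => simp
      | succ i ih =>
        have h1 : κ (p * v ^ i) = p * v ^ (i + 1) := by
          rw [map_mul, map_pow, hp', hv, mul_assoc, ← pow_succ']
        rw [← h1]
        show _ = c * ((p * v ^ i : ↥(diff x)) : G) * c⁻¹
        rw [← ih, pow_succ']
        group
    have h1 : p * v ^ orderOf c = p := Subtype.ext (by
      rw [← hit, pow_orderOf_eq_one]; simp)
    rw [mul_eq_left] at h1
    exact orderOf_eq_one_iff.mp (Nat.eq_one_of_dvd_coprimes hco
      (orderOf_dvd_of_pow_eq_one h1) (orderOf_dvd_of_pow_eq_one (hpow v)))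
  have hcompl : Subgroup.IsComplement' φ.range φ.ker := by
    refine Subgroup.isComplement'_of_card_mul_and_disjoint ?_ hdisj
    rw [← Subgroup.index_ker, mul_comm, Subgroup.card_mul_index]
  obtain ⟨⟨⟨w0, hw0⟩, ⟨u0, hu0⟩⟩, he⟩ := hcompl.2 ⟨u, hu⟩
  have hu' : (w0 : G) * (u0 : G) = u := congrArg Subtype.val he
  have hcu0 : Commute c (u0 : G) := (hker u0).mp hu0
  have hoc : (orderOf c).Coprime (orderOf (u0 : G)) :=
    (hco.coprime_dvd_right hcard).coprime_dvd_right (Subgroup.orderOf_dvd_natCard _ u0.2)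
  have hle := cen_mul_le hcu0 hoc
  have hen : (cen (c * u0)).index ≤ n := by
    refine h.hsecond _ (lt_of_le_of_ne (h.htop _) fun hem => hne ?_)
    have hd : (cen c).index ∣ m := hem ▸ Subgroup.index_dvd_of_le (hle.trans inf_le_left)
    exact h.index_eq_m (h.hcop.coprime_dvd_left hd) hcc
  -- the cosets of the centralizer of `c * u0` met by `cen y` and `diff x`
  have hineq : Nat.card φ.range * (cen (c * u0)).relIndex (cen y) ≤ (cen (c * u0)).index := by
    rw [← Subgroup.index_ker, Subgroup.index_eq_card, Subgroup.relIndex, Subgroup.index_eq_card,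
      Subgroup.index_eq_card, ← Nat.card_prod]
    refine Nat.card_le_card_of_injective (fun q : (↥(diff x) ⧸ φ.ker) ×
      (↥(cen y) ⧸ (cen (c * u0)).subgroupOf (cen y)) =>
      (((q.2.out : G) * (q.1.out : G) : G) : G ⧸ cen (c * u0))) ?_
    rintro ⟨nq, tq⟩ ⟨nq', tq'⟩ hq
    have hq' : ((tq.out : G) * (nq.out : G))⁻¹ * ((tq'.out : G) * (nq'.out : G)) ∈
        cen (c * u0) := QuotientGroup.eq.mp hq
    set s := (tq.out : G)⁻¹ * (tq'.out : G) with hs
    set p := (nq.out : G)⁻¹ * (s * (nq'.out : G) * s⁻¹) with hp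
    have hsT : s ∈ cen y := (cen y).mul_mem ((cen y).inv_mem tq.out.2) tq'.out.2
    have hpN : p ∈ diff x :=
      (diff x).mul_mem ((diff x).inv_mem nq.out.2) ((diff_normal x).conj_mem _ nq'.out.2 s)
    have hps : p * s ∈ cen (c * u0) := by
      convert hq' using 1
      rw [hp, hs]; group
    have h1 := hle hps
    have hc1 : p * s * c = c * (p * s) := mem_cen.mp h1.1
    have h2 : p⁻¹ * c * p * c⁻¹ = s * c * s⁻¹ * c⁻¹ := by
      calc p⁻¹ * c * p * c⁻¹ = p⁻¹ * (c * (p * s)) * s⁻¹ * c⁻¹ := by group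
        _ = s * c * s⁻¹ * c⁻¹ := by rw [← hc1]; group
    have hzZ : p⁻¹ * c * p * c⁻¹ ∈ Subgroup.center G := by
      rw [← h.inf_eq]
      refine ⟨diff_le_cen hgood ?_, h2 ▸ ?_⟩
      · have := (diff x).mul_mem ((diff x).inv_mem hpN) ((diff_normal x).conj_mem _ hpN c)
        simpa [mul_assoc] using this
      · exact (cen y).mul_mem ((cen y).mul_mem ((cen y).mul_mem hsT hcy) ((cen y).inv_mem hsT))
          ((cen y).inv_mem hcy)
    have hpm : p⁻¹ ^ m = 1 := congrArg Subtype.val (hpow ⟨p⁻¹, (diff x).inv_mem hpN⟩)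
    have hpc : Commute p c := Commute.inv_left_iff.mp
      (commute_of_conj_eq (i := m) (j := orderOf c) hzZ (by group)
        (by rw [hpm]; exact one_mem _) (by rw [pow_orderOf_eq_one]; exact one_mem _) hco.symm)
    have hpu : Commute p (u0 : G) := diff_comm hgood hpN u0.2
    have hsc : Commute s c := by
      have := hpc.inv_left.mul_left (show Commute (p * s) c from hc1)
      rwa [inv_mul_cancel_left] at this
    have hsu : Commute s (u0 : G) := by
      have := hpu.inv_left.mul_left (show Commute (p * s) (u0 : G) from mem_cen.mp h1.2)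
      rwa [inv_mul_cancel_left] at this
    have htq : tq = tq' := by
      rw [← tq.out_eq, ← tq'.out_eq]
      refine QuotientGroup.eq.mpr ?_
      rw [Subgroup.mem_subgroupOf]
      exact mem_cen.mpr (hsc.mul_right hsu)
    subst htq
    have hs1 : s = 1 := by rw [hs, inv_mul_cancel]
    have hnq : nq = nq' := by
      rw [← nq.out_eq, ← nq'.out_eq]
      refine QuotientGroup.eq.mpr ((hker _).mpr ?_)
      rw [hp, hs1, one_mul, inv_one, mul_one] at hpc
      exact hpc.symm
    rw [hnq]
  -- the stabilizer moves the nontrivial part of `u` freely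
  set R := cen (c * u0) ⊓ cen y with hRdef
  have hZR : Subgroup.center G ≤ R := le_inf (center_le_cen _) (center_le_cen y)
  have hprod := Subgroup.relIndex_mul_relIndex (Subgroup.center G) R (cen y) hZR inf_le_right
  rw [hRdef, Subgroup.inf_relIndex_right, h.relIndex_y, ← hRdef] at hprod
  have hW : Nat.card φ.range ≤ (Subgroup.center G).relIndex R := by
    have hle2 : Nat.card φ.range * (cen (c * u0)).relIndex (cen y) ≤
        (Subgroup.center G).relIndex R * (cen (c * u0)).relIndex (cen y) := by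
      rw [hprod]
      exact hineq.trans hen
    exact Nat.le_of_mul_le_mul_right hle2 (Nat.pos_of_ne_zero Subgroup.index_ne_zero_of_finite)
  have hw1 : (w0 : G) ≠ 1 := fun hw => by
    rw [hw, one_mul] at hu'
    refine hcc (h.inf_eq ▸ Subgroup.mem_inf.mpr ⟨?_, hcy⟩)
    rw [← hcu, ← hu']
    exact mem_cen.mpr hcu0
  have hstab : ∀ q : ↥R, (⟨(q : G) * w0 * (q : G)⁻¹,
      (diff_normal x).conj_mem _ w0.2 _⟩ : ↥(diff x)) ∈ φ.range := by
    intro q
    obtain ⟨p, hp⟩ := hw0
    refine ⟨⟨(q : G) * p * (q : G)⁻¹, (diff_normal x).conj_mem _ p.2 _⟩, Subtype.ext ?_⟩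
    have hqc : (q : G) * c = c * q := mem_cen.mp (hle q.2.1).1
    have hp' : ((p : G))⁻¹ * (c * (p : G) * c⁻¹) = w0 := congrArg Subtype.val hp
    show ((q : G) * p * (q : G)⁻¹)⁻¹ * (c * ((q : G) * p * (q : G)⁻¹) * c⁻¹) =
      (q : G) * w0 * (q : G)⁻¹
    rw [← hp']
    calc ((q : G) * p * (q : G)⁻¹)⁻¹ * (c * ((q : G) * p * (q : G)⁻¹) * c⁻¹)
        = (q : G) * (p : G)⁻¹ * (q : G)⁻¹ * (c * q) * p * (c * q)⁻¹ := by group
      _ = (q : G) * ((p : G)⁻¹ * (c * (p : G) * c⁻¹)) * (q : G)⁻¹ := by rw [← hqc]; group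
  have hlt : (Subgroup.center G).relIndex R < Nat.card φ.range := by
    rw [Subgroup.relIndex, Subgroup.index_eq_card, Nat.lt_iff_add_one_le, ← Finite.card_option]
    refine Nat.card_le_card_of_injective (fun o : Option (↥R ⧸ (Subgroup.center G).subgroupOf R) =>
      o.elim (1 : φ.range) (fun q => ⟨_, hstab q.out⟩)) ?_
    have hne1 : ∀ g : G, g * (w0 : G) * g⁻¹ ≠ 1 := fun g hg => hw1 (conj_eq_one_iff.mp hg)
    rintro (_ | q) (_ | q') hqq
    · rfl
    · exact absurd (congrArg (fun v : φ.range => ((v : ↥(diff x)) : G)) hqq).symm (hne1 _)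
    · exact absurd (congrArg (fun v : φ.range => ((v : ↥(diff x)) : G)) hqq) (hne1 _)
    · have h1 : (q.out : G) * w0 * (q.out : G)⁻¹ = (q'.out : G) * w0 * (q'.out : G)⁻¹ :=
        congrArg (fun v : φ.range => ((v : ↥(diff x)) : G)) hqq
      set s := (q.out : G)⁻¹ * (q'.out : G) with hs
      have hsR : s ∈ R := R.mul_mem (R.inv_mem q.out.2) q'.out.2
      have hsw : Commute s (w0 : G) := by
        show s * w0 = w0 * s
        calc s * w0 = (q.out : G)⁻¹ * ((q'.out : G) * w0 * (q'.out : G)⁻¹) * q'.out := by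
              rw [hs]; group
          _ = w0 * s := by rw [← h1, hs]; group
      have hsu : Commute s (u0 : G) := mem_cen.mp (hle hsR.1).2
      have hsx : s ∈ cen x := by
        rw [← hcu, ← hu']
        exact mem_cen.mpr (hsw.mul_right hsu)
      rw [← q.out_eq, ← q'.out_eq]
      congr 1
      refine QuotientGroup.eq.mpr ?_
      show s ∈ Subgroup.center G
      rw [← h.inf_eq]
      exact ⟨hsx, hsR.2⟩
  omega

theorem index_x_elem {a : G} (ha : a ∈ cen x) (hac : a ∉ Subgroup.center G) :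
    (cen a).index = n := by
  have h1 := Subgroup.relIndex_mul_index (center_le_cen a)
  rw [h.index_center] at h1
  by_cases hcp : n.Coprime ((Subgroup.center G).relIndex (cen a))
  · have hd : n ∣ (cen a).index := hcp.dvd_of_dvd_mul_left (h1 ▸ dvd_mul_right n m)
    refine le_antisymm (h.hsecond a (lt_of_le_of_ne (h.htop a) fun he => ?_))
      (Nat.le_of_dvd (Nat.pos_of_ne_zero Subgroup.index_ne_zero_of_finite) hd)
    have h2 := Nat.Coprime.eq_one_of_dvd h.hcop.symm (he ▸ hd)
    have := h.hn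
    omega
  exfalso
  obtain ⟨r, hr, hrn, hrq⟩ := Nat.Prime.not_coprime_iff_dvd.mp hcp
  have hrm : ¬ r ∣ m := fun hd => Nat.not_coprime_of_dvd_of_dvd hr.one_lt hd hrn h.hcop
  haveI := Fact.mk hr
  rw [Subgroup.relIndex, Subgroup.index_eq_card] at hrq
  obtain ⟨q, hq⟩ := exists_prime_orderOf_dvd_card' r hrq
  obtain ⟨⟨g, hg⟩, rfl⟩ := QuotientGroup.mk_surjective q
  have hgr : g ^ r ∈ Subgroup.center G := by
    have h2 := pow_orderOf_eq_one (QuotientGroup.mk (⟨g, hg⟩ : ↥(cen a)) :
      ↥(cen a) ⧸ (Subgroup.center G).subgroupOf (cen a))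
    rw [hq, ← QuotientGroup.mk_pow, QuotientGroup.eq_one_iff, Subgroup.mem_subgroupOf] at h2
    exact h2
  have hgc : g ∉ Subgroup.center G := fun hgc => hr.ne_one <| by
    rw [← hq, orderOf_eq_one_iff, QuotientGroup.eq_one_iff, Subgroup.mem_subgroupOf]
    exact hgc
  obtain ⟨c, hc, v, hv, hcv, ⟨j, hj⟩, hv'⟩ := exists_split g hr
  have hvZ : v ∈ Subgroup.center G := by
    refine mem_of_pow_mem_of_coprime (i := r) ?_ ((hr.coprime_iff_not_dvd).mpr hv').symm
    obtain ⟨i, rfl⟩ := Subgroup.mem_zpowers_iff.mp hv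
    rw [← zpow_natCast, ← zpow_mul, mul_comm, zpow_mul, zpow_natCast]
    exact Subgroup.zpow_mem _ hgr i
  have hcc : c ∉ Subgroup.center G := fun hcc => hgc (hcv ▸ Subgroup.mul_mem _ hcc hvZ)
  obtain ⟨R, hR⟩ := exists_sylow_le_cen (y := y) (r := r) (by rwa [h.hy])
  obtain ⟨k, hk⟩ := exists_conj_mem R hj
  obtain ⟨f, hf, t, ht, hft⟩ := exists_mul_of_coprime
    (H := cen x) (K := cen y) (by rw [h.hx, h.hy]; exact h.hcop.symm) k⁻¹
  have hk' : k = t⁻¹ * f⁻¹ := by rw [← inv_inv k, hft, mul_inv_rev]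
  have hcT : f⁻¹ * c * f ∈ cen y := by
    have h2 := (cen y).mul_mem ((cen y).mul_mem ht (hR hk)) ((cen y).inv_mem ht)
    rw [hk'] at h2
    simpa [mul_assoc] using h2
  have hoc : orderOf (f⁻¹ * c * f) = r ^ j := by
    rw [← hj, show f⁻¹ * c * f = MulAut.conj f⁻¹ c by simp, MulEquiv.orderOf_eq]
  have hcc' : f⁻¹ * c * f ∉ Subgroup.center G := fun h2 => hcc (by
    have := Subgroup.mem_center_iff.mp h2 f
    have h3 : c = f⁻¹ * c * f := mul_right_cancel (b := f) (by
      calc c * f = f * (f⁻¹ * c * f) := by group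
        _ = f⁻¹ * c * f * f := this)
    exact h3.symm ▸ h2)
  have hco : (orderOf (f⁻¹ * c * f)).Coprime m :=
    hoc ▸ ((hr.coprime_iff_not_dvd).mpr hrm).pow_left j
  have hmem : f⁻¹ * a * f ∈ cen x ⊓ cen (f⁻¹ * c * f) := by
    refine ⟨(cen x).mul_mem ((cen x).mul_mem ((cen x).inv_mem hf) ha) hf, mem_cen.mpr ?_⟩
    have hca : c * a = a * c := mem_cen.mp (Subgroup.zpowers_le.mpr hg hc)
    calc f⁻¹ * a * f * (f⁻¹ * c * f) = f⁻¹ * (a * c) * f := by group
      _ = f⁻¹ * c * f * (f⁻¹ * a * f) := by rw [← hca]; group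
  rw [h.inf_cen_eq (h.index_T_elem hcT hco hcc') hco] at hmem
  refine hac ?_
  have := Subgroup.Normal.conj_mem inferInstance _ hmem f
  simpa [mul_assoc] using this

theorem normal_x : (cen x).Normal := by
  refine ⟨fun a ha g => ?_⟩
  by_cases hac : a ∈ Subgroup.center G
  · rw [Subgroup.mem_center_iff.mp hac g, mul_inv_cancel_right]
    exact ha
  have hd := (h.good (a := a) (by rw [h.index_x_elem ha hac]; exact h.hcop.symm)).1
  have hle : diff a ≤ cen x := by
    refine Subgroup.relIndex_eq_one.mp ?_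
    refine Nat.eq_one_of_dvd_coprimes h.hcop.symm ?_ ((Subgroup.relIndex_dvd_card _ _).trans hd)
    have := relIndex_dvd_of_normal (cen x) (diff a)
    rwa [h.hx] at this
  have := (cen x).mul_mem ha (hle (mem_diff a g))
  rwa [mul_inv_cancel_left] at this

theorem cen_x_elem {a : G} (ha : a ∈ cen x) (hac : a ∉ Subgroup.center G) :
    cen a = cen x := by
  haveI := h.normal_x
  have hs := h.index_x_elem ha hac
  have hrel : (Subgroup.center G).relIndex (cen a) = m := by
    have h1 := Subgroup.relIndex_mul_index (center_le_cen a)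
    rw [h.index_center, hs, mul_comm n m] at h1
    exact Nat.eq_of_mul_eq_mul_right (by have := h.hn; omega) h1
  refine eq_of_le_index (Subgroup.relIndex_eq_one.mp ?_) (hs.trans h.hx.symm)
  refine Nat.eq_one_of_dvd_coprimes h.hcop.symm
    (h.hx ▸ Subgroup.relIndex_dvd_index_of_normal (cen x) (cen a))
    (hrel ▸ Subgroup.relIndex_dvd_of_le_left (cen a) (center_le_cen x))

theorem comm_x {a b : G} (ha : a ∈ cen x) (hb : b ∈ cen x) : Commute a b := by
  by_cases hac : a ∈ Subgroup.center G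
  · exact (Subgroup.mem_center_iff.mp hac b).symm
  · rw [← h.cen_x_elem ha hac] at hb
    exact (mem_cen.mp hb).symm

theorem comm_y {a b : G} (ha : a ∈ cen y) (hb : b ∈ cen y) : Commute a b := by
  haveI := h.normal_x
  suffices hK : a ∈ Subgroup.centralizer (cen y : Set G) from
    (Subgroup.mem_centralizer_iff.mp hK b hb).symm
  refine mem_of_forall_prime_pow _ a fun c hc r j hr hj => ?_
  by_cases hcc : c ∈ Subgroup.center G
  · exact Subgroup.center_le_centralizer _ hcc
  have hcy : c ∈ cen y := Subgroup.zpowers_le.mpr ha hc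
  by_cases hrm : r ∣ m
  · refine absurd (mem_of_pow_mem_of_coprime (i := n) ?_ ?_) hcc
    · have := pow_relIndex_mem (K := Subgroup.center G) hcy
      rwa [h.relIndex_y] at this
    · exact hj ▸ (h.hcop.coprime_dvd_left hrm).pow_left j
  have hco : (orderOf c).Coprime m := hj ▸ ((hr.coprime_iff_not_dvd).mpr hrm).pow_left j
  have hcm := h.index_T_elem hcy hco hcc
  refine Subgroup.mem_centralizer_iff.mpr fun t ht => ?_
  obtain ⟨f, hf, k, hk, rfl⟩ := exists_mul_of_coprime
    (H := cen x) (K := cen c) (by rw [h.hx, hcm]; exact h.hcop.symm) t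
  have hz : f * c * f⁻¹ * c⁻¹ ∈ Subgroup.center G := by
    rw [← h.inf_eq]
    refine ⟨?_, ?_⟩
    · have := (cen x).mul_mem hf (Subgroup.Normal.conj_mem inferInstance _ ((cen x).inv_mem hf) c)
      simpa [mul_assoc] using this
    · have h1 : f * c * f⁻¹ = f * k * c * (f * k)⁻¹ := by
        calc f * c * f⁻¹ = f * (c * k) * k⁻¹ * f⁻¹ := by group
          _ = f * k * c * (f * k)⁻¹ := by rw [← mem_cen.mp hk]; group
      rw [h1]
      exact (cen y).mul_mem ((cen y).mul_mem ((cen y).mul_mem ht hcy) ((cen y).inv_mem ht))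
        ((cen y).inv_mem hcy)
  have hfm : f ^ m ∈ Subgroup.center G := by
    have := pow_relIndex_mem (K := Subgroup.center G) hf
    rwa [h.relIndex_x] at this
  have hfc := commute_of_conj_eq (a := c) (i := m) (j := orderOf c) hz (by group) hfm
    (by rw [pow_orderOf_eq_one]; exact one_mem _) hco.symm
  exact (hfc.mul_left (show Commute k c from mem_cen.mp hk)).eq

theorem cen_y_elem {t : G} (ht : t ∈ cen y) (htc : t ∉ Subgroup.center G) : cen t = cen y := by
  have hle : cen y ≤ cen t := fun g hg => mem_cen.mpr (h.comm_y hg ht)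
  have hd : (cen t).index ∣ m := h.hy ▸ Subgroup.index_dvd_of_le hle
  exact (eq_of_le_index hle (h.hy.trans (h.index_eq_m (h.hcop.coprime_dvd_left hd) htc).symm)).symm

omit h [Finite G] in
theorem mk_mem_map_iff (a g : G) :
    QuotientGroup.mk' (Subgroup.center G) g ∈ (cen a).map (QuotientGroup.mk' (Subgroup.center G)) ↔
      g ∈ cen a := by
  rw [← Subgroup.mem_comap, Subgroup.comap_map_eq, QuotientGroup.ker_mk',
    sup_eq_left.mpr (center_le_cen a)]

omit h in
theorem card_map_cen (a : G) :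
    Nat.card ((cen a).map (QuotientGroup.mk' (Subgroup.center G))) =
      (Subgroup.center G).relIndex (cen a) := by
  have := Subgroup.relIndex_ker (cen a) (QuotientGroup.mk' (Subgroup.center G))
  rw [QuotientGroup.ker_mk'] at this
  exact this.symm

theorem frobenius :
    Cfsg.IsFrobeniusComplement ((cen y).map (QuotientGroup.mk' (Subgroup.center G))) ∧
    Cfsg.frobeniusKernel ((cen y).map (QuotientGroup.mk' (Subgroup.center G))) =
      ((cen x).map (QuotientGroup.mk' (Subgroup.center G)) : Set (G ⧸ Subgroup.center G)) := by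
  set mk := QuotientGroup.mk' (Subgroup.center G) with hmk
  haveI := h.normal_x
  have hmkc : ∀ g : G, mk g = 1 ↔ g ∈ Subgroup.center G := fun g => QuotientGroup.eq_one_iff g
  have hyZ : y ∉ Subgroup.center G := not_mem_center (by rw [h.hy]; exact h.hn.trans h.hmn)
  have hH : Cfsg.IsFrobeniusComplement ((cen y).map mk) := by
    refine ⟨fun hb => hyZ ((hmkc y).mp (Subgroup.mem_bot.mp
      (hb ▸ Subgroup.mem_map_of_mem mk (self_mem_cen y)))), fun ht => ?_, fun gq hg => ?_⟩
    · have hy' := h.hy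
      rw [show cen y = ⊤ from eq_top_iff.mpr fun g _ =>
        (mk_mem_map_iff y g).mp (ht ▸ Subgroup.mem_top _), Subgroup.index_top] at hy'
      have := h.hn
      have := h.hmn
      omega
    obtain ⟨g, rfl⟩ := QuotientGroup.mk'_surjective (Subgroup.center G) gq
    rw [eq_bot_iff]
    rintro q ⟨hq1, hq2⟩
    obtain ⟨t, ht, rfl⟩ := hq1
    rw [Subgroup.mem_bot, hmkc]
    by_contra htc
    have ht' : g⁻¹ * t * g ∈ cen y := by
      obtain ⟨_, ⟨t', ht', rfl⟩, he⟩ := hq2
      rw [← mk_mem_map_iff]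
      refine ⟨t', ht', ?_⟩
      simp only [map_mul, map_inv]
      show mk t' = (mk g)⁻¹ * mk t * mk g
      rw [show mk t = mk g * mk t' * (mk g)⁻¹ from he.symm]
      group
    have htc' : g⁻¹ * t * g ∉ Subgroup.center G := fun h2 => htc (by
      have := Subgroup.Normal.conj_mem inferInstance _ h2 g
      simpa [mul_assoc] using this)
    have hnorm : ∀ u ∈ cen y, g * u * g⁻¹ ∈ cen y := fun u hu => by
      rw [← h.cen_y_elem ht' htc'] at hu
      rw [← h.cen_y_elem ht htc, mem_cen]
      calc g * u * g⁻¹ * t = g * (u * (g⁻¹ * t * g)) * g⁻¹ := by group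
        _ = t * (g * u * g⁻¹) := by rw [mem_cen.mp hu]; group
    obtain ⟨f, hf, k, hk, rfl⟩ := exists_mul_of_coprime
      (H := cen x) (K := cen y) (by rw [h.hx, h.hy]; exact h.hcop.symm) g
    apply hg
    rw [mk_mem_map_iff]
    refine (cen y).mul_mem ?_ hk
    have hfy : f * y * f⁻¹ ∈ cen y := by
      have h1 := hnorm y (self_mem_cen y)
      rwa [show f * k * y * (f * k)⁻¹ = f * (k * y) * k⁻¹ * f⁻¹ by group, mem_cen.mp hk,
        show f * (y * k) * k⁻¹ * f⁻¹ = f * y * f⁻¹ by group] at h1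
    have hz : f * y * f⁻¹ * y⁻¹ ∈ Subgroup.center G := by
      rw [← h.inf_eq]
      refine ⟨?_, (cen y).mul_mem hfy ((cen y).inv_mem (self_mem_cen y))⟩
      have := (cen x).mul_mem hf (Subgroup.Normal.conj_mem inferInstance _ ((cen x).inv_mem hf) y)
      simpa [mul_assoc] using this
    have hfm : f ^ m ∈ Subgroup.center G := by
      have := pow_relIndex_mem (K := Subgroup.center G) hf
      rwa [h.relIndex_x] at this
    have hyn : y ^ n ∈ Subgroup.center G := by
      have := pow_relIndex_mem (K := Subgroup.center G) (self_mem_cen y)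
      rwa [h.relIndex_y] at this
    exact mem_cen.mpr (commute_of_conj_eq (i := m) (j := n) hz (by group) hfm hyn h.hcop)
  haveI : ((cen x).map mk).Normal :=
    h.normal_x.map _ (QuotientGroup.mk'_surjective _)
  refine ⟨hH, CfsgLib.FrobCompl.frobeniusKernel_eq_of_complement hH
    (Subgroup.isComplement'_of_card_mul_and_disjoint ?_ ?_)⟩
  · rw [card_map_cen, card_map_cen, h.relIndex_x, h.relIndex_y, ← Subgroup.index_eq_card,
      h.index_center, mul_comm]
  · rw [disjoint_iff, eq_bot_iff]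
    rintro q ⟨⟨a, ha, rfl⟩, hq⟩
    rw [Subgroup.mem_bot, hmkc, ← h.inf_eq]
    exact ⟨ha, (mk_mem_map_iff y a).mp hq⟩

end TwoLargest

end CfsgLib.ClassGraph
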